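import Groth.Agent.S10048
import Groth.Agent.StkGerb.StabScheme
import Groth.Agent.StkGerb.SepEqualizer
import Groth.Agent.SpLimit.BaseRestrict
import Groth.Agent.AlgSp2.FiniteTfae
import Groth.Agent.AlgStBasic.SpaceProps
import Groth.Agent.AlgSpBasic.Compact

/-!
# Proper spaces over an affine scheme are images of proper schemes
-/

set_option autoImplicit false
set_option backward.isDefEq.respectTransparency.types false
universe u

open CategoryTheory CategoryTheory.Limits AlgebraicGeometry AlgSp Groth.AlgSpBasic Groth.AlgSp3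

noncomputable section

namespace Groth.AlgSp2.FibreCount

variable {S : Scheme.{u}} {R : Type u} [CommRing R] (g : Spec (CommRingCat.of R) ⟶ S) {P : Sp S}

/-- A proper space over an affine scheme receives a proper surjection from a proper scheme. -/
theorem exists_scheme_cover (hP : IsAlgSpace P) (pr : P ⟶ (yon S).obj (Over.mk g)) (hpr : IsProperMor pr) :
    ∃ (V : Over (Spec (CommRingCat.of R))) (_ : IsProper V.hom) (q : (yon S).obj ((Over.map g).obj V) ⟶ P),
      RepWith @Surjective q ∧ RepWith @IsProper q ∧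
        q ≫ pr = (yon S).map (Over.homMk V.hom rfl : (Over.map g).obj V ⟶ Over.mk g) := by
  obtain ⟨e, he⟩ := exists_shriek_fibre_iso g (G := P) pr
  have hZ : IsAlgSpace (fibre g pr) := (isAlgSpace_shriek_iff g _).1 ((isAlgSpace_iff_of_iso e).2 hP)
  have hZqc : IsQuasiCompactSp (fibre g pr) := by
    refine Groth.SpLimit.isQuasiCompactSp_of_shriek g ?_
    have hb : IsQuasiCompactSp ((yon S).obj (Over.mk g)) :=
      (isQuasiCompactSp_yon_iff _).2 (inferInstanceAs (CompactSpace ↥(Spec (CommRingCat.of R))))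
    exact hpr.2.1.2 (IsAlgSpace.yon_obj _) hb (𝟙 _) e.hom (e.hom ≫ pr)
      (IsPullback.of_horiz_isIso ⟨by simp⟩)
  have hZqs : IsQuasiSeparatedSp (fibre g pr) :=
    Groth.StkGerb.isQuasiSeparatedSp_of_shriek g e he (Groth.AlgStBasic.qs_of_sep hpr.1)
  obtain ⟨U, p, hpe, hps⟩ := hZ.atlas
  obtain ⟨V, h, hf, hs, -⟩ := Groth.Agent.S10048.result _ ⟨_, hZ⟩ hZqc hZqs U p hpe hps
  have hfin : RepWith @IsFinite h := (Groth.AlgSp2.isFiniteMor_iff (IsAlgSpace.yon_obj V) hZ).1 hf
  let q : (yon S).obj ((Over.map g).obj V) ⟶ P := (shriekYonIso g V).inv ≫ (shriek g).map h ≫ e.hom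
  have key : ∀ {Q : MorphismProperty Scheme.{u}} [Q.RespectsIso], RepWith Q h → RepWith Q q := fun {Q} _ hQ =>
    MorphismProperty.RespectsIso.precomp _ (shriekYonIso g V).inv _
      (MorphismProperty.RespectsIso.postcomp _ e.hom _ (repWith_shriek_map g hQ))
  have hqp : RepWith @IsProper q :=
    key (repWith_mono (fun A B φ (hφ : IsFinite φ) => (inferInstance : IsProper φ)) hfin)
  have hqs : RepWith @Surjective q := key (repWith_surjective_of_points hfin.rep hs)
  have hqpr : q ≫ pr = (yon S).map (Over.homMk V.hom rfl : (Over.map g).obj V ⟶ Over.mk g) := by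
    simp only [q, Category.assoc]
    rw [he, shriekToBase_naturality, Iso.inv_comp_eq]
    ext T a
    exact ULift.ext _ _ (Over.OverMorphism.ext (Over.w a.2.down).symm)
  refine ⟨V, ?_, q, hqs, hqp, hqpr⟩
  have h1 : IsProperMor (q ≫ pr) := Groth.AlgStBasic.stableComp_proper
    (IsAlgSpace.yon_obj _) hP (IsAlgSpace.yon_obj _) q pr
    ((isProperMor_iff_repWith (IsAlgSpace.yon_obj _) hP hqp.rep).2 hqp) hpr
  rw [hqpr] at h1
  exact (repWith_yon_map_iff _ _).1
    ((isProperMor_iff_repWith (IsAlgSpace.yon_obj _) (IsAlgSpace.yon_obj _) (representable_yon_map _)).1 h1)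

end Groth.AlgSp2.FibreCount

end
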