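import Groth.Agent.AlgSp2.FibreCount.StageOpens
import Groth.Agent.HensPair.ProperClopen
import Groth.Agent.CohFin.ProjFinite
import Groth.Agent.AlgSp2.GeomConnSp
import Mathlib.FieldTheory.IsSepClosed

/-!
# Clopen subsets of geometric fibres of proper schemes extend to etale neighbourhoods
-/

set_option autoImplicit false
set_option maxHeartbeats 800000
set_option linter.style.haveILetI false
universe u

open CategoryTheory CategoryTheory.Limits AlgebraicGeometry TensorProduct Groth.Hensel1 Groth.Sga3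
  Groth.Sga3.HensPoint

noncomputable section

namespace Groth.AlgSp2.FibreCount

variable {R : Type u} [CommRing R] {X : Scheme.{u}} (f : X ⟶ Spec (CommRingCat.of R))

theorem isPullback_trX {E E' : Type u} [CommRing E] [Algebra R E] [CommRing E'] [Algebra R E'] (g : E →ₐ[R] E') :
    IsPullback (trX f g) (pullback.fst (eS R E') f) (pullback.fst (eS R E) f) (Spec.map (CommRingCat.ofHom g.toRingHom)) := by
  refine IsPullback.of_right ?_ (trX_fst f g) (IsPullback.of_hasPullback (eS R E) f).flip
  rw [trX_snd, spec_alg]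
  exact (IsPullback.of_hasPullback (eS R E') f).flip

theorem range_trX {E E' : Type u} [CommRing E] [Algebra R E] [CommRing E'] [Algebra R E'] (g : E →ₐ[R] E') :
    Set.range (trX f g) = pullback.fst (eS R E) f ⁻¹' Set.range (Spec.map (CommRingCat.ofHom g.toRingHom)) := by
  rw [trX, Scheme.Pullback.range_map]
  simp

/-- Clopen subsets descend along open surjections with connected fibres. -/
theorem image_clopen_of_connected_fibres {A B : Scheme.{u}} (q : A ⟶ B) [GeometricallyConnected q]
    (ho : IsOpenMap q) {P : Set ↥A} (hP : IsClopen P) : IsClopen (q '' P) ∧ q ⁻¹' (q '' P) = P := by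
  have key : q ⁻¹' (q '' P) = P := by
    refine Set.Subset.antisymm (fun a ha => ?_) (Set.subset_preimage_image _ _)
    obtain ⟨b, hb, e⟩ := ha
    exact (q.isConnected_preimage_singleton (q a)).isPreconnected.subset_isClopen hP ⟨b, e, hb⟩ rfl
  refine ⟨⟨?_, ho _ hP.2⟩, key⟩
  rw [← isOpen_compl_iff, show (q '' P)ᶜ = q '' Pᶜ from ?_]
  · exact ho _ hP.1.isOpen_compl
  · ext b
    obtain ⟨a, rfl⟩ := q.surjective b
    constructor
    · exact fun h => ⟨a, fun ha => h ⟨a, ha, rfl⟩, rfl⟩
    · rintro ⟨a', ha', e⟩ h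
      rw [← e] at h
      exact ha' (key.le h)

/-- Clopen subsets of a geometric fibre extend to an etale neighbourhood. -/
theorem exists_clopen_nbhd [IsProper f] (k : Type u) [Field k] [IsAlgClosed k] [Algebra R k]
    {P : Set ↥(XE f k)} (hP : IsClopen P) :
    ∃ (E : Type u) (_ : CommRing E) (_ : Algebra R E) (_ : Algebra.Etale R E) (g : E →ₐ[R] k) (W : Set ↥(XE f E)),
      IsClopen W ∧ trX f g ⁻¹' W = P := by
  let p : Ideal R := RingHom.ker (algebraMap R k)
  haveI : p.IsPrime := RingHom.ker_isPrime _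
  letI : Algebra p.ResidueField k :=
    (Ideal.ResidueField.lift p (algebraMap R k) le_rfl fun s hs =>
      IsUnit.mk0 _ fun h => (show s ∉ p from hs) (RingHom.mem_ker.2 h)).toAlgebra
  haveI : IsScalarTower R p.ResidueField k := IsScalarTower.of_algebraMap_eq fun r => by
    exact (Ideal.ResidueField.lift_algebraMap _ _ _ _ r).symm
  let Ω := separableClosure p.ResidueField k
  haveI : IsSepClosed Ω := IsSepClosure.sep_closed p.ResidueField
  haveI : Algebra.IsSeparable p.ResidueField Ω := separableClosure.isSeparable _ _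
  let incl : Ω →ₐ[R] k := Ω.val.restrictScalars R
  let A := Hens R Ω
  let pt : A →ₐ[R] Ω := Hens.pt
  have hpt : Function.Surjective pt := pt_surjective p
  -- from `k` to the separable closure
  haveI : GeometricallyConnected (trX f incl) :=
    MorphismProperty.of_isPullback (isPullback_trX f incl).flip (Groth.AlgSp2.GeomConnSp.geometricallyConnected_field incl.toRingHom)
  haveI : UniversallyOpen (trX f incl) :=
    MorphismProperty.of_isPullback (isPullback_trX f incl).flip (Groth.AlgSp2.GeomConnSp.universallyOpen_field incl.toRingHom)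
  obtain ⟨hP₁, hP₁'⟩ := image_clopen_of_connected_fibres (trX f incl) (trX f incl).isOpenMap hP
  generalize trX f incl '' P = P₁ at hP₁ hP₁'
  -- to the henselian ring
  haveI : IsClosedImmersion (Spec.map (CommRingCat.ofHom pt.toRingHom)) :=
    IsClosedImmersion.spec_of_surjective _ hpt
  haveI : IsClosedImmersion (trX f pt) :=
    MorphismProperty.of_isPullback (isPullback_trX f pt).flip ‹IsClosedImmersion (Spec.map (CommRingCat.ofHom pt.toRingHom))›
  have hker : RingHom.ker pt.toRingHom = IsLocalRing.maximalIdeal A :=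
    IsLocalRing.eq_maximalIdeal (RingHom.ker_isMaximal_of_surjective pt.toRingHom hpt)
  have hrange : Set.range (trX f pt) = HensPair.overV (pullback.fst (eS R A) f) (IsLocalRing.maximalIdeal A) := by
    rw [range_trX, ← hker]
    exact congrArg _ (range_comap_of_surjective _ _ hpt)
  have hinj := (trX f pt).isClosedEmbedding.injective
  obtain ⟨W, hW, hWV⟩ := HensPair.exists_clopen_of_proper CohFin.projFinite (IsLocalRing.maximalIdeal A)
    (pullback.fst (eS R A) f) (trX f pt '' P₁) (trX f pt '' P₁ᶜ)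
    ((trX f pt).isClosedEmbedding.isClosedMap _ hP₁.1) ((trX f pt).isClosedEmbedding.isClosedMap _ hP₁.2.isClosed_compl)
    (by rw [← Set.image_inter hinj, Set.inter_compl_self, Set.image_empty])
    (by rw [← Set.image_union, Set.union_compl_self, Set.image_univ, hrange])
  have hWP : trX f pt ⁻¹' W = P₁ := by
    have h := congrArg (trX f pt ⁻¹' ·) hWV
    simp only [Set.preimage_inter, ← hrange, Set.preimage_range, Set.inter_univ, Set.preimage_image_eq _ hinj] at h
    exact h
  -- to an etale stage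
  haveI : CompactSpace ↥X := QuasiCompact.compactSpace_of_compactSpace f
  haveI : CompactSpace ↥(XE f A) := QuasiCompact.compactSpace_of_compactSpace (pullback.fst (eS R A) f)
  let S₀ : Stage R Ω := ⟨R, Algebra.ofId R _⟩
  obtain ⟨S₁, -, K₁, hK₁c, hK₁o, hK₁⟩ := exists_stage_open (f := f) S₀ hW.1.isCompact hW.2
  obtain ⟨S₂, g₁, K₂, hK₂c, hK₂o, hK₂⟩ := exists_stage_open (f := f) S₁ hW.2.isClosed_compl.isCompact hW.1.isOpen_compl
  haveI hqc : ∀ (E : Type u) [CommRing E] [Algebra R E], QuasiSeparatedSpace ↥(XE f E) := fun E _ _ =>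
    quasiSeparatedSpace_of_quasiSeparated (pullback.fst (eS R E) f)
  haveI : QuasiCompact (trX f g₁.f) := by
    haveI : QuasiCompact (trX f g₁.f ≫ pullback.fst (eS R S₁.E) f) := by rw [trX_fst]; infer_instance
    exact QuasiCompact.of_comp _ (pullback.fst (eS R S₁.E) f)
  have hK₁' : trX f S₂.h ⁻¹' (trX f g₁.f ⁻¹' K₁) = W := by rw [← preimage_trX_comp, g₁.comm, hK₁]
  obtain ⟨S₃, g₂, h₃⟩ := exists_stage_empty (f := f) S₂
    (K := trX f g₁.f ⁻¹' K₁ ∩ K₂)
    ((QuasiCompact.isCompact_preimage _ hK₁o hK₁c).inter_of_isOpen hK₂c (hK₁o.preimage (trX f g₁.f).continuous) hK₂o)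
    ((hK₁o.preimage (trX f g₁.f).continuous).inter hK₂o)
    (by rw [Set.preimage_inter, hK₁', hK₂, Set.inter_compl_self])
  let K := trX f g₂.f ⁻¹' (trX f g₁.f ⁻¹' K₁)
  let K' := trX f g₂.f ⁻¹' K₂
  have hKo : IsOpen K := (hK₁o.preimage (trX f g₁.f).continuous).preimage (trX f g₂.f).continuous
  have hK'o : IsOpen K' := hK₂o.preimage (trX f g₂.f).continuous
  have hK : trX f S₃.h ⁻¹' K = W := by rw [← preimage_trX_comp, g₂.comm, hK₁']
  have hK' : trX f S₃.h ⁻¹' K' = Wᶜ := by rw [← preimage_trX_comp, g₂.comm, hK₂]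
  have hdisj : K ∩ K' = ∅ := by rw [← h₃, Set.preimage_inter]
  let ψ : S₃.E →ₐ[R] Ω := pt.comp S₃.h
  let v : PrimeSpectrum S₃.E := Spec.map (CommRingCat.ofHom ψ.toRingHom) (IsLocalRing.closedPoint Ω)
  have hv : v ∉ pullback.fst (eS R S₃.E) f '' (K ∪ K')ᶜ := by
    rintro ⟨z, hz, hzv⟩
    obtain ⟨z', rfl⟩ := (range_trX f ψ).ge (show z ∈ _ from ⟨_, hzv.symm⟩)
    rw [trX_comp, Scheme.Hom.comp_apply] at hz
    rcases em (trX f pt z' ∈ W) with h | h
    · exact hz (Or.inl (hK.ge h))
    · exact hz (Or.inr (hK'.ge h))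
  obtain ⟨_, ⟨c, rfl⟩, hvc, hc⟩ := PrimeSpectrum.isTopologicalBasis_basic_opens.exists_subset_of_mem_open
    (show v ∈ (pullback.fst (eS R S₃.E) f '' (K ∪ K')ᶜ)ᶜ from hv)
    ((pullback.fst (eS R S₃.E) f).isClosedMap _ (hKo.union hK'o).isClosed_compl).isOpen_compl
  let E := Localization.Away c
  haveI : Algebra.Etale S₃.E E := Algebra.Etale.of_isLocalizationAway c
  haveI : Algebra.Etale R E := Algebra.Etale.comp R S₃.E E
  let ι : S₃.E →ₐ[R] E := IsScalarTower.toAlgHom R S₃.E E
  have hcu : IsUnit ((incl.comp ψ) c) := by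
    refine IsUnit.mk0 _ fun h => hvc ?_
    have h' : ψ c = 0 := incl.toRingHom.injective (h.trans (map_zero _).symm)
    show ψ c ∈ (IsLocalRing.closedPoint Ω).asIdeal
    rw [h']
    exact zero_mem _
  let g : E →ₐ[R] k := IsLocalization.Away.liftAlgHom (f := incl.comp ψ) c hcu
  have hg : g.comp ι = incl.comp ψ := AlgHom.ext fun a => IsLocalization.Away.lift_eq (S := E) c hcu a
  refine ⟨E, inferInstance, inferInstance, inferInstance, g, trX f ι ⁻¹' K, ⟨?_, hKo.preimage (trX f ι).continuous⟩, ?_⟩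
  · rw [← isOpen_compl_iff, show (trX f ι ⁻¹' K)ᶜ = trX f ι ⁻¹' K' from ?_]
    · exact hK'o.preimage (trX f ι).continuous
    · ext z
      refine ⟨fun hz => ?_, fun hz h => (Set.eq_empty_iff_forall_notMem.1 hdisj _) ⟨h, hz⟩⟩
      by_contra h
      refine hc (a := pullback.fst (eS R S₃.E) f (trX f ι z)) ?_ ⟨_, fun h' => h'.elim hz h, rfl⟩
      rw [← Scheme.Hom.comp_apply, trX_fst, Scheme.Hom.comp_apply]
      exact (PrimeSpectrum.localization_away_comap_range E c).le ⟨_, rfl⟩
  · rw [← preimage_trX_comp, hg, preimage_trX_comp, preimage_trX_comp, hK, hWP, hP₁']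

end Groth.AlgSp2.FibreCount

end
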