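import Groth.Agent.AlgSp2.FibreCount.FibreClopen
import Groth.Agent.S1361
import Mathlib.RingTheory.Unramified.Finite
import Mathlib.RingTheory.Etale.Field
import Mathlib.FieldTheory.IsAlgClosed.Basic

/-!
# Etale pieces with geometrically connected fibres through a point of a geometric fibre
-/

set_option autoImplicit false
set_option backward.isDefEq.respectTransparency.types false
set_option linter.style.haveILetI false
universe u

open CategoryTheory CategoryTheory.Limits AlgebraicGeometry TensorProduct

noncomputable section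

namespace Groth.AlgSp2.FibreCount

/-- A map from an etale algebra to an extension of an algebraically closed field takes values in the field. -/
theorem exists_algHom_of_etale {R : Type u} [CommRing R] (E : Type u) [CommRing E] [Algebra R E] [Algebra.Etale R E]
    (k L : Type u) [Field k] [IsAlgClosed k] [Field L] [Algebra R k] [Algebra k L] [Algebra R L]
    [IsScalarTower R k L] (φ : E →ₐ[R] L) :
    ∃ γ : E →ₐ[R] k, (IsScalarTower.toAlgHom R k L).comp γ = φ := by
  haveI : Module.Finite k (k ⊗[R] E) := Algebra.FormallyUnramified.finite_of_free k (k ⊗[R] E)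
  let ψ : k ⊗[R] E →ₐ[k] L := Algebra.TensorProduct.lift (Algebra.ofId k L) φ fun _ _ => Commute.all _ _
  have hmem : ∀ e : E, φ e ∈ (IsScalarTower.toAlgHom R k L).range := fun e => by
    have h1 : IsIntegral k (ψ (1 ⊗ₜ e)) := (IsIntegral.of_finite k _).map ψ
    have h2 : ψ (1 ⊗ₜ e) = φ e := by simp [ψ]
    rw [h2] at h1
    have h3 : (minpoly k (φ e)).natDegree = 1 :=
      Polynomial.natDegree_eq_of_degree_eq_some (IsAlgClosed.degree_eq_one_of_irreducible k (minpoly.irreducible h1))
    obtain ⟨c, hc⟩ := minpoly.natDegree_eq_one_iff.1 h3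
    exact ⟨c, hc⟩
  let e₀ := AlgEquiv.ofInjective (IsScalarTower.toAlgHom R k L) (algebraMap k L).injective
  refine ⟨e₀.symm.toAlgHom.comp (φ.codRestrict _ hmem), AlgHom.ext fun x => ?_⟩
  exact congrArg Subtype.val (e₀.apply_symm_apply (φ.codRestrict _ hmem x))

variable {R : Type u} [CommRing R]

/-- A piece with geometrically connected fibres over an etale algebra. -/
structure ConnPiece {U : Scheme.{u}} (h : U ⟶ Spec (CommRingCat.of R)) (k : Type u) [Field k] [Algebra R k] where
  /-- the algebra -/
  E : Type u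
  [ring : CommRing E]
  [alg : Algebra R E]
  [etale : Algebra.Etale R E]
  /-- the point -/
  γ : E →ₐ[R] k
  /-- the piece -/
  X' : Scheme.{u}
  /-- the map to the scheme -/
  a : X' ⟶ U
  /-- the map to the base -/
  b : X' ⟶ Spec (CommRingCat.of E)
  [etale_a : Etale a]
  [conn : GeometricallyConnected b]
  w : a ≫ h = b ≫ eS R E

attribute [instance] ConnPiece.ring ConnPiece.alg ConnPiece.etale ConnPiece.etale_a ConnPiece.conn

/-- The fibre of a piece maps to the fibre of the scheme. -/
def ConnPiece.d {U : Scheme.{u}} {h : U ⟶ Spec (CommRingCat.of R)} {k : Type u} [Field k] [Algebra R k]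
    (c : ConnPiece h k) :
    pullback (Spec.map (CommRingCat.ofHom c.γ.toRingHom)) c.b ⟶ XE h k :=
  pullback.lift (pullback.fst _ _) (pullback.snd _ _ ≫ c.a)
    (by rw [Category.assoc, c.w, ← pullback.condition_assoc, spec_alg])

theorem ConnPiece.d_fst {U : Scheme.{u}} {h : U ⟶ Spec (CommRingCat.of R)} {k : Type u} [Field k] [Algebra R k]
    (c : ConnPiece h k) : c.d ≫ pullback.fst _ _ = pullback.fst _ _ := pullback.lift_fst _ _ _

theorem ConnPiece.d_snd {U : Scheme.{u}} {h : U ⟶ Spec (CommRingCat.of R)} {k : Type u} [Field k] [Algebra R k]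
    (c : ConnPiece h k) : c.d ≫ pullback.snd _ _ = pullback.snd _ _ ≫ c.a := pullback.lift_snd _ _ _

instance ConnPiece.etale_d {U : Scheme.{u}} {h : U ⟶ Spec (CommRingCat.of R)} {k : Type u} [Field k] [Algebra R k]
    (c : ConnPiece h k) : Etale c.d := by
  let l : c.X' ⟶ XE h c.E := pullback.lift c.b c.a c.w.symm
  haveI : Etale (eS R c.E) := HasRingHomProperty.Spec_iff.2 (RingHom.etale_algebraMap.2 c.etale)
  haveI : Etale (l ≫ pullback.snd (eS R c.E) h) := by rw [pullback.lift_snd]; infer_instance
  haveI : Etale l := Etale.of_comp l (pullback.snd (eS R c.E) h)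
  have hl : Etale l := inferInstance
  refine MorphismProperty.of_isPullback (P := @Etale) (f := trX h c.γ) (g := l) (g' := c.d) (f' := pullback.snd _ _) ?_ hl
  refine IsPullback.of_bot (h₁₁ := pullback.snd (Spec.map (CommRingCat.ofHom c.γ.toRingHom)) c.b) ?_ ?_
    (isPullback_trX h c.γ)
  · rw [c.d_fst, pullback.lift_fst]
    exact (IsPullback.of_hasPullback _ _).flip
  · apply pullback.hom_ext
    · rw [Category.assoc, Category.assoc, pullback.lift_fst, trX_fst, reassoc_of% c.d_fst]
      exact pullback.condition.symm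
    · rw [Category.assoc, Category.assoc, pullback.lift_snd, trX_snd, c.d_snd]

/-- Every point of a geometric fibre lies on a piece. -/
theorem exists_connPiece {U : Scheme.{u}} (h : U ⟶ Spec (CommRingCat.of R)) [Flat h] [LocallyOfFinitePresentation h]
    [GeometricallyReduced h] (k : Type u) [Field k] [IsAlgClosed k] [Algebra R k] (z : ↥(XE h k)) :
    ∃ c : ConnPiece h k, z ∈ Set.range c.d := by
  let x := pullback.snd (eS R k) h z
  obtain ⟨X', S', a, b, c, ha, ⟨x', hx'⟩, hc, hw, -, -, -, -, hb, -⟩ := Groth.Agent.S1361.result h x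
  obtain ⟨W, hW, hbx, -⟩ := exists_isAffineOpen_mem_and_subset (x := b x') (U := (⊤ : S'.Opens)) trivial
  obtain ⟨s, hs⟩ : b x' ∈ Set.range hW.fromSpec := hW.range_fromSpec.ge hbx
  let E : Type u := Γ(S', W)
  letI : Algebra R E := (Spec.preimage (hW.fromSpec ≫ c)).hom.toAlgebra
  have hE : eS R E = hW.fromSpec ≫ c := Spec.map_preimage _
  haveI : Algebra.Etale R E := by
    haveI : Etale (eS R E) := by rw [hE]; infer_instance
    exact RingHom.etale_algebraMap.1 ((HasRingHomProperty.Spec_iff (P := @Etale)).1 ‹Etale (eS R E)›)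
  let b'' := pullback.snd b hW.fromSpec
  let a'' := pullback.fst b hW.fromSpec ≫ a
  obtain ⟨x'', hx''⟩ : x' ∈ Set.range (pullback.fst b hW.fromSpec) := by
    rw [Scheme.Pullback.range_fst]; exact ⟨s, hs⟩
  haveI : Etale a'' := inferInstance
  haveI : GeometricallyConnected b'' := inferInstance
  obtain ⟨ζ, hζ₁, hζ₂⟩ := Scheme.Pullback.exists_preimage_pullback (f := a'') (g := pullback.snd (eS R k) h) x'' z
    (by rw [Scheme.Hom.comp_apply, hx'']; exact hx')
  let T := pullback a'' (pullback.snd (eS R k) h)
  let L : Type u := T.residueField ζ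
  let pk : Spec (CommRingCat.of L) ⟶ Spec (CommRingCat.of k) :=
    T.fromSpecResidueField ζ ≫ pullback.snd _ _ ≫ pullback.fst _ _
  let pE : Spec (CommRingCat.of L) ⟶ Spec (CommRingCat.of E) :=
    T.fromSpecResidueField ζ ≫ pullback.fst _ _ ≫ b''
  letI : Algebra k L := (Spec.preimage pk).hom.toAlgebra
  letI : Algebra R L := ((algebraMap k L).comp (algebraMap R k)).toAlgebra
  haveI : IsScalarTower R k L := IsScalarTower.of_algebraMap_eq' rfl
  have hw'' : a'' ≫ h = b'' ≫ eS R E := by
    rw [hE, ← pullback.condition_assoc, Category.assoc, hw]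
  have hcomm : pE ≫ eS R E = pk ≫ eS R k := by
    simp only [pE, pk, Category.assoc]
    rw [← hw'', pullback.condition_assoc, pullback.condition]
  let φ : E →ₐ[R] L :=
    { (Spec.preimage pE).hom with
      commutes' := fun r => by
        have e : CommRingCat.ofHom (algebraMap R E) ≫ Spec.preimage pE =
            CommRingCat.ofHom (algebraMap R k) ≫ Spec.preimage pk := Spec.map_injective (by
          rw [Spec.map_comp, Spec.map_comp, Spec.map_preimage, Spec.map_preimage]; exact hcomm)
        exact congrArg (fun m => m.hom r) e }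
  obtain ⟨γ, hγ⟩ := exists_algHom_of_etale E k L φ
  have hpE : pE = pk ≫ Spec.map (CommRingCat.ofHom γ.toRingHom) := by
    rw [← Spec.map_preimage pE, ← Spec.map_preimage pk, ← Spec.map_comp]
    exact congrArg Spec.map (CommRingCat.hom_ext (congrArg AlgHom.toRingHom hγ).symm)
  let cp : ConnPiece h k := { E := E, γ := γ, X' := _, a := a'', b := b'', w := hw'' }
  refine ⟨cp, ?_⟩
  let l : Spec (CommRingCat.of L) ⟶ pullback (Spec.map (CommRingCat.ofHom γ.toRingHom)) b'' :=
    pullback.lift pk (T.fromSpecResidueField ζ ≫ pullback.fst _ _) (hpE.symm.trans (Category.assoc _ _ _).symm)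
  refine ⟨l (IsLocalRing.closedPoint L), ?_⟩
  have hl : l ≫ cp.d = T.fromSpecResidueField ζ ≫ pullback.snd _ _ := by
    apply pullback.hom_ext
    · rw [Category.assoc, cp.d_fst, pullback.lift_fst, Category.assoc]
    · rw [Category.assoc, cp.d_snd, pullback.lift_snd_assoc, Category.assoc, Category.assoc, pullback.condition]
  rw [← Scheme.Hom.comp_apply, hl, Scheme.Hom.comp_apply, Scheme.fromSpecResidueField_apply]
  exact hζ₂

end Groth.AlgSp2.FibreCount

end
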