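import Groth.Agent.AlgSp2.FibreCount.FibreClopen
import Groth.Agent.AlgSp2.FibreCount.Cover
import Groth.Agent.AlgSp2.GeomConnFibre
import Groth.Agent.AlgSp2.FppfProps
import Groth.Agent.AlgSpBasic.Univ
import Groth.Agent.AlgStBasic.Atlas

/-!
# The number of connected components of geometric fibres near a point

For a proper flat finitely presented space over an affine scheme a finite family of disjoint clopen
subsets of a geometric fibre extends to the nearby geometric fibres.
-/

set_option autoImplicit false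
set_option backward.isDefEq.respectTransparency.types false
set_option maxHeartbeats 800000
set_option linter.style.haveILetI false
universe u

open CategoryTheory CategoryTheory.Limits AlgebraicGeometry AlgSp Groth.AlgSpBasic TensorProduct

noncomputable section

namespace Groth.AlgSp2.FibreCount

theorem lt_card_of_clopens {α : Type*} [TopologicalSpace α] {n : ℕ} (A : Fin (n + 1) → Set α)
    (hA : ∀ i, IsClopen (A i)) (hne : ∀ i, (A i).Nonempty) (hd : ∀ i j, i ≠ j → A i ∩ A j = ∅) :
    (n : ℕ∞) < ENat.card (ConnectedComponents α) := by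
  choose x hx using hne
  have hinj : Function.Injective fun i => ConnectedComponents.mk (x i) := fun i j e => by
    by_contra hne
    have h := (hA i).connectedComponent_subset (hx i)
      (show x j ∈ connectedComponent (x i) from by
        rw [ConnectedComponents.coe_eq_coe.1 e]; exact mem_connectedComponent)
    exact Set.eq_empty_iff_forall_notMem.1 (hd i j hne) _ ⟨h, hx j⟩
  refine lt_of_lt_of_le ?_ (ENat.card_le_card_of_injective hinj)
  rw [ENat.card_eq_coe_fintype_card, Fintype.card_fin]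
  exact_mod_cast Nat.lt_succ_self n

theorem exists_clopens_of_lt_card {α : Type*} [TopologicalSpace α] [Finite (ConnectedComponents α)] {n : ℕ}
    (h : (n : ℕ∞) < ENat.card (ConnectedComponents α)) :
    ∃ A : Fin (n + 1) → Set α, (∀ i, IsClopen (A i)) ∧ (∀ i, (A i).Nonempty) ∧ ∀ i j, i ≠ j → A i ∩ A j = ∅ := by
  have := Fintype.ofFinite (ConnectedComponents α)
  rw [ENat.card_eq_coe_fintype_card, Nat.cast_lt] at h
  obtain ⟨c⟩ := Function.Embedding.nonempty_of_card_le (α := Fin (n + 1)) (β := ConnectedComponents α)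
    (by rw [Fintype.card_fin]; exact h)
  refine ⟨fun i => ConnectedComponents.mk ⁻¹' {c i}, fun i => (isClopen_discrete _).preimage
    ConnectedComponents.continuous_coe, fun i => ?_, fun i j hij => ?_⟩
  · obtain ⟨x, hx⟩ := ConnectedComponents.surjective_coe (c i)
    exact ⟨x, hx⟩
  · exact Set.eq_empty_iff_forall_notMem.2 fun x ⟨h₁, h₂⟩ => hij (c.injective (h₁.symm.trans h₂))

theorem finite_connectedComponents_of_noetherian (Z : Type*) [TopologicalSpace Z]
    [TopologicalSpace.NoetherianSpace Z] : Finite (ConnectedComponents Z) := by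
  have : Finite (irreducibleComponents Z) :=
    (TopologicalSpace.NoetherianSpace.finite_irreducibleComponents (α := Z)).to_subtype
  refine Finite.of_surjective
    (fun s : irreducibleComponents Z => ConnectedComponents.mk s.2.1.nonempty.choose) fun c => ?_
  obtain ⟨z, rfl⟩ := ConnectedComponents.surjective_coe c
  refine ⟨⟨irreducibleComponent z, irreducibleComponent_mem_irreducibleComponents z⟩,
    ConnectedComponents.coe_eq_coe'.2 ?_⟩
  refine isIrreducible_irreducibleComponent.isConnected.isPreconnected.subset_connectedComponent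
    mem_irreducibleComponent ?_
  exact Exists.choose_spec _

theorem exists_clopens_nbhd {R : Type u} [CommRing R] {X : Scheme.{u}} (f : X ⟶ Spec (CommRingCat.of R))
    [IsProper f] (k : Type u) [Field k] [IsAlgClosed k] [Algebra R k] {m : ℕ} (P : Fin m → Set ↥(XE f k))
    (hP : ∀ i, IsClopen (P i)) :
    ∃ (E : Type u) (_ : CommRing E) (_ : Algebra R E) (_ : Algebra.Etale R E) (γ : E →ₐ[R] k)
      (W : Fin m → Set ↥(XE f E)), ∀ i, IsClopen (W i) ∧ trX f γ ⁻¹' W i = P i := by
  induction m with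
  | zero => exact ⟨R, inferInstance, inferInstance, inferInstance, Algebra.ofId R k, Fin.elim0, fun i => i.elim0⟩
  | succ m ih =>
    obtain ⟨E₁, _, _, _, γ₁, W₁, h₁⟩ := ih (fun i => P i.succ) fun i => hP i.succ
    obtain ⟨E₂, _, _, _, γ₂, W₂, hW₂, h₂⟩ := exists_clopen_nbhd f k (hP 0)
    haveI : Algebra.Etale R (E₁ ⊗[R] E₂) := Algebra.Etale.comp R E₁ _
    refine ⟨E₁ ⊗[R] E₂, inferInstance, inferInstance, inferInstance,
      Algebra.TensorProduct.lift γ₁ γ₂ fun _ _ => Commute.all _ _,
      Fin.cons (trX f Algebra.TensorProduct.includeRight ⁻¹' W₂)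
        fun i => trX f Algebra.TensorProduct.includeLeft ⁻¹' W₁ i, fun i => ?_⟩
    induction i using Fin.cases with
    | zero =>
      refine ⟨hW₂.preimage (trX f _).continuous, ?_⟩
      rw [Fin.cons_zero, ← preimage_trX_comp, show (Algebra.TensorProduct.lift γ₁ γ₂ fun _ _ => Commute.all _ _).comp
        Algebra.TensorProduct.includeRight = γ₂ from AlgHom.ext fun a => by simp]
      exact h₂
    | succ i =>
      refine ⟨(h₁ i).1.preimage (trX f _).continuous, ?_⟩
      rw [Fin.cons_succ, ← preimage_trX_comp, show (Algebra.TensorProduct.lift γ₁ γ₂ fun _ _ => Commute.all _ _).comp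
        Algebra.TensorProduct.includeLeft = γ₁ from AlgHom.ext fun a => by simp]
      exact (h₁ i).2

variable {S : Scheme.{u}} {R : Type u} [CommRing R] (g : Spec (CommRingCat.of R) ⟶ S)

/-- The base changed point of the base. -/
abbrev TE (E : Type u) [CommRing E] [Algebra R E] : Over S := Over.mk (eS R E ≫ g)

/-- Its structure map. -/
abbrev ψ (E : Type u) [CommRing E] [Algebra R E] : TE g E ⟶ Over.mk g := Over.homMk (eS R E) rfl

variable {P : Sp S} (pr : P ⟶ (yon S).obj (Over.mk g))

/-- The base change of the space. -/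
abbrev PE (E : Type u) [CommRing E] [Algebra R E] : Sp S := pullback pr ((yon S).map (ψ g E))

theorem isAlgSpace_PE (hP : IsAlgSpace P) (E : Type u) [CommRing E] [Algebra R E] : IsAlgSpace (PE g pr E) :=
  isAlgSpace_of_isPullback (IsPullback.of_hasPullback _ _) (IsAlgSpace.yon_obj _).diag hP (IsAlgSpace.yon_obj _)

/-- A presentation of a proper space by proper schemes. -/
structure Presentation where
  /-- the cover -/
  V : Over (Spec (CommRingCat.of R))
  [proper : IsProper V.hom]
  /-- the covering map -/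
  q : (yon S).obj ((Over.map g).obj V) ⟶ P
  surj : RepWith @Surjective q
  qproper : RepWith @IsProper q
  fac : q ≫ pr = (yon S).map (Over.homMk V.hom rfl : (Over.map g).obj V ⟶ Over.mk g)
  /-- the equivalence relation -/
  R2 : Over S
  /-- first projection -/
  r1 : R2 ⟶ (Over.map g).obj V
  /-- second projection -/
  r2 : R2 ⟶ (Over.map g).obj V
  sq : IsPullback ((yon S).map r1) ((yon S).map r2) q q

theorem nonempty_presentation (hP : IsAlgSpace P) (hpr : IsProperMor pr) : Nonempty (Presentation g pr) := by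
  obtain ⟨V, hV, q, hs, hp, hq⟩ := exists_scheme_cover g hP pr hpr
  obtain ⟨R2, snd, fst, sq⟩ := hp.rep q
  rw [← (yon S).map_preimage fst] at sq
  exact ⟨@Presentation.mk _ _ _ g P pr V hV q hs hp hq R2 ((yon S).preimage fst) snd sq⟩

namespace Presentation

variable {g pr} (D : Presentation g pr)

attribute [instance] Presentation.proper

/-- The map of the relation to the base. -/
def ρ : D.R2.left ⟶ Spec (CommRingCat.of R) := D.r2.left ≫ D.V.hom

theorem r1_hom : D.r1.left ≫ D.V.hom = D.ρ := by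
  have h := congrArg (· ≫ pr) D.sq.w
  simp only [Category.assoc, D.fac, ← Functor.map_comp] at h
  exact congrArg (fun φ => φ.left) ((yon S).map_injective h)

variable (E : Type u) [CommRing E] [Algebra R E]

/-- The cover after base change, as an object over the base. -/
abbrev VE : Over S := Over.mk (pullback.fst (eS R E) D.V.hom ≫ eS R E ≫ g)

/-- The relation after base change. -/
abbrev RE : Over S := Over.mk (pullback.fst (eS R E) D.ρ ≫ eS R E ≫ g)

/-- Projection to the cover. -/
def cV : D.VE E ⟶ (Over.map g).obj D.V :=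
  Over.homMk (pullback.snd (eS R E) D.V.hom) (by
    show pullback.snd (eS R E) D.V.hom ≫ D.V.hom ≫ g = pullback.fst (eS R E) D.V.hom ≫ eS R E ≫ g
    exact (pullback.condition_assoc g).symm)

/-- Projection to the base. -/
abbrev aT : D.VE E ⟶ TE g E := Over.homMk (pullback.fst (eS R E) D.V.hom) rfl

/-- Projection of the relation. -/
def cR : D.RE E ⟶ D.R2 :=
  Over.homMk (pullback.snd (eS R E) D.ρ) (by
    show pullback.snd (eS R E) D.ρ ≫ D.R2.hom = pullback.fst (eS R E) D.ρ ≫ eS R E ≫ g
    rw [← Over.w D.r2]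
    exact (pullback.condition_assoc g).symm)

/-- First projection of the relation. -/
def a1 : XE D.ρ E ⟶ XE D.V.hom E :=
  pullback.map _ _ _ _ (𝟙 _) D.r1.left (𝟙 _) (by simp) ((Category.comp_id _).trans D.r1_hom.symm)

/-- Second projection of the relation. -/
def a2 : XE D.ρ E ⟶ XE D.V.hom E :=
  pullback.map _ _ _ _ (𝟙 _) D.r2.left (𝟙 _) (by simp) (Category.comp_id _)

@[reassoc]
theorem a1_fst : D.a1 E ≫ pullback.fst _ _ = pullback.fst _ _ :=
  (pullback.lift_fst _ _ _).trans (Category.comp_id _)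

@[reassoc]
theorem a2_fst : D.a2 E ≫ pullback.fst _ _ = pullback.fst _ _ :=
  (pullback.lift_fst _ _ _).trans (Category.comp_id _)

theorem a1_snd : D.a1 E ≫ pullback.snd _ _ = pullback.snd _ _ ≫ D.r1.left := pullback.lift_snd _ _ _

theorem a2_snd : D.a2 E ≫ pullback.snd _ _ = pullback.snd _ _ ≫ D.r2.left := pullback.lift_snd _ _ _

/-- First projection over the base. -/
def A1 : D.RE E ⟶ D.VE E := Over.homMk (D.a1 E) (D.a1_fst_assoc E _)

/-- Second projection over the base. -/
def A2 : D.RE E ⟶ D.VE E := Over.homMk (D.a2 E) (D.a2_fst_assoc E _)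

theorem A1_aT : D.A1 E ≫ D.aT E = Over.homMk (pullback.fst (eS R E) D.ρ) rfl :=
  Over.OverMorphism.ext (D.a1_fst E)

theorem A2_aT : D.A2 E ≫ D.aT E = Over.homMk (pullback.fst (eS R E) D.ρ) rfl :=
  Over.OverMorphism.ext (D.a2_fst E)

theorem A1_cV : D.A1 E ≫ D.cV E = D.cR E ≫ D.r1 := Over.OverMorphism.ext (pullback.lift_snd _ _ _)

theorem A2_cV : D.A2 E ≫ D.cV E = D.cR E ≫ D.r2 := Over.OverMorphism.ext (pullback.lift_snd _ _ _)

theorem isPullback_cV : IsPullback ((yon S).map (D.cV E)) ((yon S).map (D.aT E))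
    ((yon S).map (Over.homMk D.V.hom rfl : (Over.map g).obj D.V ⟶ Over.mk g)) ((yon S).map (ψ g E)) :=
  (IsPullback.of_map (Over.forget S) (f := D.cV E) (g := D.aT E) (h := (Over.homMk D.V.hom rfl :
      (Over.map g).obj D.V ⟶ Over.mk g)) (i := ψ g E) (Over.OverMorphism.ext pullback.condition.symm)
    (IsPullback.of_hasPullback (eS R E) D.V.hom).flip).map (yon S)

theorem isPullback_cR : IsPullback ((yon S).map (D.cR E)) ((yon S).map (D.A2 E)) ((yon S).map D.r2)
    ((yon S).map (D.cV E)) :=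
  (IsPullback.of_map (Over.forget S) (D.A2_cV E).symm
    (IsPullback.of_bot (show IsPullback (pullback.snd (eS R E) D.ρ) (D.a2 E ≫ pullback.fst (eS R E) D.V.hom)
        (D.r2.left ≫ D.V.hom) (eS R E) from by rw [D.a2_fst]; exact (IsPullback.of_hasPullback (eS R E) D.ρ).flip)
      (pullback.lift_snd _ _ _).symm (IsPullback.of_hasPullback (eS R E) D.V.hom).flip)).map (yon S)

/-- The covering map after base change. -/
def qE : (yon S).obj (D.VE E) ⟶ PE g pr E :=
  pullback.lift ((yon S).map (D.cV E) ≫ D.q) ((yon S).map (D.aT E))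
    ((Category.assoc _ _ _).trans ((congrArg (_ ≫ ·) D.fac).trans (D.isPullback_cV E).w))

theorem qE_fst : D.qE E ≫ pullback.fst _ _ = (yon S).map (D.cV E) ≫ D.q := pullback.lift_fst _ _ _

theorem qE_snd : D.qE E ≫ pullback.snd _ _ = (yon S).map (D.aT E) := pullback.lift_snd _ _ _

theorem isPullback_qE : IsPullback ((yon S).map (D.cV E)) (D.qE E) D.q (pullback.fst pr ((yon S).map (ψ g E))) :=
  IsPullback.of_bot (by rw [D.qE_snd, D.fac]; exact D.isPullback_cV E) (D.qE_fst E).symm (IsPullback.of_hasPullback _ _)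

theorem isPullback_rel : IsPullback ((yon S).map (D.A1 E)) ((yon S).map (D.A2 E)) (D.qE E) (D.qE E) := by
  refine IsPullback.of_right ?_ ?_ (D.isPullback_qE E)
  · rw [← Functor.map_comp, D.A1_cV, Functor.map_comp, D.qE_fst]
    exact (D.isPullback_cR E).paste_horiz D.sq
  · apply pullback.hom_ext
    · rw [Category.assoc, Category.assoc, D.qE_fst, ← Functor.map_comp_assoc, ← Functor.map_comp_assoc,
        D.A1_cV, D.A2_cV, Functor.map_comp, Functor.map_comp, Category.assoc, Category.assoc]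
      exact congrArg (_ ≫ ·) D.sq.w
    · rw [Category.assoc, Category.assoc, D.qE_snd, ← Functor.map_comp, ← Functor.map_comp, D.A1_aT, D.A2_aT]

/-- The covering map on points. -/
def pts : ↥(XE D.V.hom E) → Points (PE g pr E) := Points.ofPt (D.qE E)

theorem continuous_pts : Continuous (D.pts E) := Points.continuous_ofPt (T := D.VE E) _

theorem surjective_pts : Function.Surjective (D.pts E) :=
  surjective_ofPt_of_repWith (U := D.VE E) (repWith_of_isPullback (D.isPullback_qE E) D.surj)

theorem isClosedMap_pts : IsClosedMap (D.pts E) := by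
  rw [show D.pts E = Points.map (D.qE E) ∘ Points.schemeHomeo (D.VE E) from
    funext fun t => ofPt_eq_map (D.qE E) t]
  exact (isClosedMap_map_of_repWith (fun _ _ φ (_ : IsProper φ) => φ.isClosedMap)
    (repWith_of_isPullback (D.isPullback_qE E) D.qproper)).comp (Points.schemeHomeo (D.VE E)).isClosedMap

/-- Saturated subsets of the cover. -/
def Sat (W : Set ↥(XE D.V.hom E)) : Prop := D.a1 E ⁻¹' W = D.a2 E ⁻¹' W

theorem pts_eq_iff (x x' : ↥(XE D.V.hom E)) :
    D.pts E x = D.pts E x' ↔ ∃ w : ↥(XE D.ρ E), D.a1 E w = x ∧ D.a2 E w = x' :=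
  ofPt_eq_ofPt_iff (D.isPullback_rel E) x x'

theorem sat_preimage (A : Set (Points (PE g pr E))) : D.Sat E (D.pts E ⁻¹' A) := by
  ext w
  simp only [Set.mem_preimage, (D.pts_eq_iff E _ _).2 ⟨w, rfl, rfl⟩]

variable {E}

theorem Sat.preimage_image {W : Set ↥(XE D.V.hom E)} (hW : D.Sat E W) : D.pts E ⁻¹' (D.pts E '' W) = W := by
  refine Set.Subset.antisymm (fun x hx => ?_) (Set.subset_preimage_image _ _)
  obtain ⟨x', hx', e⟩ := hx
  obtain ⟨w, rfl, rfl⟩ := (D.pts_eq_iff E x' x).1 e
  exact hW.le hx'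

theorem Sat.image_compl {W : Set ↥(XE D.V.hom E)} (hW : D.Sat E W) : (D.pts E '' W)ᶜ = D.pts E '' Wᶜ := by
  ext p
  obtain ⟨x, rfl⟩ := D.surjective_pts E p
  constructor
  · exact fun h => ⟨x, fun hx => h ⟨x, hx, rfl⟩, rfl⟩
  · rintro ⟨x', hx', e⟩ h
    rw [← e] at h
    exact hx' ((Sat.preimage_image D hW).le h)

theorem Sat.isClopen_image {W : Set ↥(XE D.V.hom E)} (hW : D.Sat E W) (hc : IsClopen W) :
    IsClopen (D.pts E '' W) := by
  refine ⟨D.isClosedMap_pts E _ hc.1, ?_⟩
  rw [← isClosed_compl_iff, Sat.image_compl D hW]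
  exact D.isClosedMap_pts E _ hc.2.isClosed_compl

theorem Sat.isOpen_image_fst {W : Set ↥(XE D.V.hom E)} (hW : D.Sat E W) (hc : IsClopen W)
    (hP : IsAlgSpace P) (hfl : LocP @Flat pr) (hfp : LocP @LocallyOfFinitePresentation pr) :
    IsOpen (pullback.fst (eS R E) D.V.hom '' W) := by
  have hT : IsAlgSpace ((yon S).obj (Over.mk g)) := IsAlgSpace.yon_obj _
  have hTE : IsAlgSpace ((yon S).obj (TE g E)) := IsAlgSpace.yon_obj _
  have ho := isOpenMor_of_fppf (isAlgSpace_PE g pr hP E) hTE
    (f := pullback.snd pr ((yon S).map (ψ g E)))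
    (locP_of_isPullback hP hT hTE (IsPullback.of_hasPullback _ _) hfl)
    (locP_of_isPullback hP hT hTE (IsPullback.of_hasPullback _ _) hfp) _ (Sat.isClopen_image D hW hc).2
  have e : ∀ x, Points.map (pullback.snd pr ((yon S).map (ψ g E))) (D.pts E x) =
      Points.schemeHomeo (TE g E) (pullback.fst (eS R E) D.V.hom x) := fun x => by
    rw [pts, Points.map_ofPt, D.qE_snd, ofPt_eq_map]
    exact Points.map_yon_map_apply (D.aT E) x
  rw [← (Points.schemeHomeo (TE g E)).isOpen_image]
  convert ho using 1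
  rw [Set.image_image, Set.image_image]
  exact Set.image_congr fun x _ => (e x).symm

variable {E' : Type u} [CommRing E'] [Algebra R E']

theorem trX_a1 (γ : E →ₐ[R] E') : D.a1 E' ≫ trX D.V.hom γ = trX D.ρ γ ≫ D.a1 E := by
  apply pullback.hom_ext
  · exact (Category.assoc _ _ _).trans <| (congrArg (D.a1 E' ≫ ·) (trX_fst D.V.hom γ)).trans <|
      (D.a1_fst_assoc E' _).trans <| (trX_fst D.ρ γ).symm.trans <|
      (congrArg (trX D.ρ γ ≫ ·) (D.a1_fst E).symm).trans (Category.assoc _ _ _).symm
  · exact (Category.assoc _ _ _).trans <| (congrArg (D.a1 E' ≫ ·) (trX_snd D.V.hom γ)).trans <|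
      (D.a1_snd E').trans <| (congrArg (· ≫ D.r1.left) (trX_snd D.ρ γ).symm).trans <|
      (Category.assoc _ _ _).trans <| (congrArg (trX D.ρ γ ≫ ·) (D.a1_snd E).symm).trans (Category.assoc _ _ _).symm

theorem trX_a2 (γ : E →ₐ[R] E') : D.a2 E' ≫ trX D.V.hom γ = trX D.ρ γ ≫ D.a2 E := by
  apply pullback.hom_ext
  · exact (Category.assoc _ _ _).trans <| (congrArg (D.a2 E' ≫ ·) (trX_fst D.V.hom γ)).trans <|
      (D.a2_fst_assoc E' _).trans <| (trX_fst D.ρ γ).symm.trans <|
      (congrArg (trX D.ρ γ ≫ ·) (D.a2_fst E).symm).trans (Category.assoc _ _ _).symm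
  · exact (Category.assoc _ _ _).trans <| (congrArg (D.a2 E' ≫ ·) (trX_snd D.V.hom γ)).trans <|
      (D.a2_snd E').trans <| (congrArg (· ≫ D.r2.left) (trX_snd D.ρ γ).symm).trans <|
      (Category.assoc _ _ _).trans <| (congrArg (trX D.ρ γ ≫ ·) (D.a2_snd E).symm).trans (Category.assoc _ _ _).symm

theorem preimage_a1 (γ : E →ₐ[R] E') (W : Set ↥(XE D.V.hom E)) :
    D.a1 E' ⁻¹' (trX D.V.hom γ ⁻¹' W) = trX D.ρ γ ⁻¹' (D.a1 E ⁻¹' W) := by
  ext w
  simp only [Set.mem_preimage, ← Scheme.Hom.comp_apply, trX_a1]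

theorem preimage_a2 (γ : E →ₐ[R] E') (W : Set ↥(XE D.V.hom E)) :
    D.a2 E' ⁻¹' (trX D.V.hom γ ⁻¹' W) = trX D.ρ γ ⁻¹' (D.a2 E ⁻¹' W) := by
  ext w
  simp only [Set.mem_preimage, ← Scheme.Hom.comp_apply, trX_a2]

theorem isProper_ρ : IsProper D.ρ := by
  have h : IsProper D.r2.left := (repWith_yon_map_iff _ _).1 (repWith_of_isPullback D.sq D.qproper)
  exact MorphismProperty.comp_mem _ _ _ h D.proper

end Presentation

/-- The point of a field algebra. -/
abbrev imPt (R : Type u) [CommRing R] (k : Type u) [Field k] [Algebra R k] : ↥(Spec (CommRingCat.of R)) :=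
  eS R k (IsLocalRing.closedPoint k)

theorem disjoint_image_of_preimage_empty {E k : Type u} [CommRing E] [Algebra R E] [Field k] [Algebra R k]
    {X : Scheme.{u}} (f : X ⟶ Spec (CommRingCat.of R)) (γ : E →ₐ[R] k) {B : Set ↥(XE f E)}
    (hB : trX f γ ⁻¹' B = ∅) :
    Spec.map (CommRingCat.ofHom γ.toRingHom) (IsLocalRing.closedPoint k) ∉ pullback.fst (eS R E) f '' B := by
  rintro ⟨z, hz, e⟩
  obtain ⟨z', rfl⟩ := (range_trX f γ).ge (show z ∈ _ from ⟨_, e.symm⟩)
  exact Set.eq_empty_iff_forall_notMem.1 hB z' hz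

/-- A geometric point above a point. -/
theorem exists_geom (t : PrimeSpectrum R) :
    ∃ (k : Type u) (_ : Field k) (_ : IsAlgClosed k) (_ : Algebra R k), imPt R k = t := by
  refine ⟨AlgebraicClosure t.asIdeal.ResidueField, inferInstance, inferInstance,
    ((algebraMap t.asIdeal.ResidueField (AlgebraicClosure t.asIdeal.ResidueField)).comp
      (algebraMap R t.asIdeal.ResidueField)).toAlgebra, ?_⟩
  refine PrimeSpectrum.ext ?_
  show Ideal.comap (((algebraMap t.asIdeal.ResidueField (AlgebraicClosure t.asIdeal.ResidueField)).comp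
    (algebraMap R t.asIdeal.ResidueField))) (IsLocalRing.maximalIdeal _) = t.asIdeal
  rw [IsLocalRing.maximalIdeal_eq_bot, ← RingHom.ker_eq_comap_bot, RingHom.ker_comp_of_injective _
    (FaithfulSMul.algebraMap_injective _ _), Ideal.ker_algebraMap_residueField]

/-- Geometric fibres have finitely many connected components. -/
theorem finite_connectedComponents_PE (hP : IsAlgSpace P) (hpr : IsProperMor pr) (k : Type u) [Field k] [Algebra R k] :
    Finite (ConnectedComponents (Points (PE g pr k))) := by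
  obtain ⟨D⟩ := nonempty_presentation g pr hP hpr
  haveI : IsLocallyNoetherian (XE D.V.hom k) := LocallyOfFiniteType.isLocallyNoetherian (pullback.fst (eS R k) D.V.hom)
  haveI : CompactSpace ↥(XE D.V.hom k) := QuasiCompact.compactSpace_of_compactSpace (pullback.fst (eS R k) D.V.hom)
  haveI : AlgebraicGeometry.IsNoetherian (XE D.V.hom k) := ⟨⟩
  haveI := finite_connectedComponents_of_noetherian ↥(XE D.V.hom k)
  exact Finite.of_surjective (D.continuous_pts k).connectedComponentsMap fun c => by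
    obtain ⟨p, rfl⟩ := ConnectedComponents.surjective_coe c
    obtain ⟨x, rfl⟩ := D.surjective_pts k p
    exact ⟨ConnectedComponents.mk x, rfl⟩

/-- More than `n` components in one geometric fibre give more than `n` in all nearby ones. -/
theorem exists_open_nhds (hP : IsAlgSpace P) (hpr : IsProperMor pr) (hfl : LocP @Flat pr)
    (hfp : LocP @LocallyOfFinitePresentation pr) (k : Type u) [Field k] [IsAlgClosed k] [Algebra R k] (n : ℕ)
    (hn : (n : ℕ∞) < ENat.card (ConnectedComponents (Points (PE g pr k)))) :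
    ∃ O : Set ↥(Spec (CommRingCat.of R)), IsOpen O ∧ imPt R k ∈ O ∧
      ∀ t ∈ O, ∃ (k' : Type u) (_ : Field k') (_ : IsAlgClosed k') (_ : Algebra R k'), imPt R k' = t ∧
        (n : ℕ∞) < ENat.card (ConnectedComponents (Points (PE g pr k'))) := by
  obtain ⟨D⟩ := nonempty_presentation g pr hP hpr
  haveI := D.isProper_ρ
  haveI : IsLocallyNoetherian (XE D.V.hom k) := LocallyOfFiniteType.isLocallyNoetherian (pullback.fst (eS R k) D.V.hom)
  haveI : CompactSpace ↥(XE D.V.hom k) := QuasiCompact.compactSpace_of_compactSpace (pullback.fst (eS R k) D.V.hom)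
  haveI : AlgebraicGeometry.IsNoetherian (XE D.V.hom k) := ⟨⟩
  haveI := finite_connectedComponents_of_noetherian ↥(XE D.V.hom k)
  haveI : Finite (ConnectedComponents (Points (PE g pr k))) :=
    Finite.of_surjective (D.continuous_pts k).connectedComponentsMap fun c => by
      obtain ⟨p, rfl⟩ := ConnectedComponents.surjective_coe c
      obtain ⟨x, rfl⟩ := D.surjective_pts k p
      exact ⟨ConnectedComponents.mk x, rfl⟩
  obtain ⟨A, hA, hAne, hAd⟩ := exists_clopens_of_lt_card hn
  obtain ⟨E, _, _, _, γ, W, hW⟩ := exists_clopens_nbhd D.V.hom k (fun i => D.pts k ⁻¹' A i)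
    fun i => (hA i).preimage (D.continuous_pts k)
  let v : ↥(Spec (CommRingCat.of E)) := Spec.map (CommRingCat.ofHom γ.toRingHom) (IsLocalRing.closedPoint k)
  let F := pullback.fst (eS R E) D.ρ
  let G := pullback.fst (eS R E) D.V.hom
  let badR : Fin (n + 1) → Set ↥(Spec (CommRingCat.of E)) := fun i =>
    F '' (D.a1 E ⁻¹' W i ∩ (D.a2 E ⁻¹' W i)ᶜ ∪ (D.a1 E ⁻¹' W i)ᶜ ∩ D.a2 E ⁻¹' W i)
  let badI : Fin (n + 1) → Fin (n + 1) → Set ↥(Spec (CommRingCat.of E)) := fun i j =>
    {t | i ≠ j ∧ t ∈ G '' (W i ∩ W j)}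
  have hbRc : ∀ i, IsClosed (badR i) := fun i => F.isClosedMap _ <| (((hW i).1.preimage (D.a1 E).continuous).inter
    ((hW i).1.preimage (D.a2 E).continuous).compl).union (((hW i).1.preimage (D.a1 E).continuous).compl.inter
      ((hW i).1.preimage (D.a2 E).continuous)) |>.1
  have hbIc : ∀ i j, IsClosed (badI i j) := fun i j => by
    rcases eq_or_ne i j with h | h
    · simp [badI, h]
    · rw [show badI i j = G '' (W i ∩ W j) from Set.ext fun t => and_iff_right h]
      exact G.isClosedMap _ ((hW i).1.inter (hW j).1).1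
  have hvR : ∀ i, v ∉ badR i := fun i => disjoint_image_of_preimage_empty D.ρ γ (by
    simp only [Set.preimage_union, Set.preimage_inter, Set.preimage_compl, ← D.preimage_a1, ← D.preimage_a2,
      (hW i).2]
    rw [show D.a1 k ⁻¹' (D.pts k ⁻¹' A i) = D.a2 k ⁻¹' (D.pts k ⁻¹' A i) from D.sat_preimage k (A i)]
    simp)
  have hvI : ∀ i j, v ∉ badI i j := fun i j h => disjoint_image_of_preimage_empty D.V.hom γ (by
    rw [Set.preimage_inter, (hW i).2, (hW j).2, ← Set.preimage_inter, hAd i j h.1, Set.preimage_empty]) h.2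
  obtain ⟨_, ⟨c, rfl⟩, hvc, hc⟩ := PrimeSpectrum.isTopologicalBasis_basic_opens.exists_subset_of_mem_open
    (show v ∈ ((⋃ i, badR i) ∪ ⋃ i, ⋃ j, badI i j)ᶜ by
      simp only [Set.mem_compl_iff, Set.mem_union, Set.mem_iUnion, not_or, not_exists]
      exact ⟨hvR, hvI⟩)
    ((isClosed_iUnion_of_finite hbRc).union
      (isClosed_iUnion_of_finite fun i => isClosed_iUnion_of_finite (hbIc i))).isOpen_compl
  -- restrict to the good open
  let E' := Localization.Away c
  haveI : Algebra.Etale E E' := Algebra.Etale.of_isLocalizationAway c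
  haveI : Algebra.Etale R E' := Algebra.Etale.comp R E E'
  let ι : E →ₐ[R] E' := IsScalarTower.toAlgHom R E E'
  have hcu : IsUnit (γ c) := IsUnit.mk0 _ fun h => hvc (by
    show γ c ∈ (IsLocalRing.closedPoint k).asIdeal
    rw [h]
    exact zero_mem _)
  let γ' : E' →ₐ[R] k := IsLocalization.Away.liftAlgHom (f := γ) c hcu
  have hγ : γ'.comp ι = γ := AlgHom.ext fun a => IsLocalization.Away.lift_eq (S := E') c hcu a
  let W' : Fin (n + 1) → Set ↥(XE D.V.hom E') := fun i => trX D.V.hom ι ⁻¹' W i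
  have hW' : ∀ i, IsClopen (W' i) := fun i => (hW i).1.preimage (trX D.V.hom ι).continuous
  have hmem : ∀ {Z : Scheme.{u}} (ζ : Z ⟶ Spec (CommRingCat.of R)) (z : ↥(XE ζ E')),
      pullback.fst (eS R E) ζ (trX ζ ι z) ∉ (⋃ i, badR i) ∪ ⋃ i, ⋃ j, badI i j := fun ζ z => by
    refine hc ?_
    rw [← Scheme.Hom.comp_apply, trX_fst, Scheme.Hom.comp_apply]
    exact (PrimeSpectrum.localization_away_comap_range E' c).le ⟨_, rfl⟩
  have hsat : ∀ i, D.Sat E' (W' i) := fun i => by
    rw [Presentation.Sat, D.preimage_a1, D.preimage_a2]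
    ext w
    by_contra h
    refine hmem D.ρ w (Or.inl (Set.mem_iUnion.2 ⟨i, trX D.ρ ι w, ?_, rfl⟩))
    simp only [Set.mem_preimage, Set.mem_union, Set.mem_inter_iff, Set.mem_compl_iff] at h ⊢
    tauto
  have hdisj : ∀ i j, i ≠ j → W' i ∩ W' j = ∅ := fun i j hij => Set.eq_empty_iff_forall_notMem.2 fun x hx =>
    hmem D.V.hom x (Or.inr (Set.mem_iUnion.2 ⟨i, Set.mem_iUnion.2 ⟨j, hij, _, hx, rfl⟩⟩))
  let N : Set ↥(Spec (CommRingCat.of E')) := ⋂ i, pullback.fst (eS R E') D.V.hom '' W' i
  have hN : IsOpen N := isOpen_iInter_of_finite fun i => Presentation.Sat.isOpen_image_fst D (hsat i) (hW' i) hP hfl hfp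
  have hWk : ∀ i, trX D.V.hom γ' ⁻¹' W' i = D.pts k ⁻¹' A i := fun i => by
    rw [← preimage_trX_comp, hγ]; exact (hW i).2
  haveI : Etale (eS R E') := HasRingHomProperty.Spec_iff.2 (RingHom.etale_algebraMap.2 ‹_›)
  refine ⟨eS R E' '' N, (eS R E').isOpenMap _ hN, ⟨Spec.map (CommRingCat.ofHom γ'.toRingHom)
    (IsLocalRing.closedPoint k), Set.mem_iInter.2 fun i => ?_, ?_⟩, ?_⟩
  · obtain ⟨p, hp⟩ := hAne i
    obtain ⟨x, rfl⟩ := D.surjective_pts k p
    refine ⟨trX D.V.hom γ' x, (hWk i).ge hp, ?_⟩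
    rw [← Scheme.Hom.comp_apply, trX_fst, Scheme.Hom.comp_apply]
    exact congrArg _ (Subsingleton.elim _ _)
  · rw [← Scheme.Hom.comp_apply, spec_alg]
  · rintro _ ⟨t, ht, rfl⟩
    obtain ⟨k', _, _, _, hk'⟩ := exists_geom (R := E') t
    letI : Algebra R k' := ((algebraMap E' k').comp (algebraMap R E')).toAlgebra
    let δ : E' →ₐ[R] k' := { algebraMap E' k' with commutes' := fun _ => rfl }
    refine ⟨k', inferInstance, inferInstance, inferInstance, ?_, ?_⟩
    · rw [← hk', imPt, imPt, ← spec_alg δ, Scheme.Hom.comp_apply]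
    · let B : Fin (n + 1) → Set ↥(XE D.V.hom k') := fun i => trX D.V.hom δ ⁻¹' W' i
      have hB : ∀ i, IsClopen (B i) := fun i => (hW' i).preimage (trX D.V.hom δ).continuous
      have hBs : ∀ i, D.Sat k' (B i) := fun i => by
        rw [Presentation.Sat, D.preimage_a1, D.preimage_a2, hsat i]
      refine lt_card_of_clopens (fun i => D.pts k' '' B i) (fun i => Presentation.Sat.isClopen_image D (hBs i) (hB i))
        (fun i => ?_) fun i j hij => ?_
      · obtain ⟨z, hz, e⟩ := Set.mem_iInter.1 ht i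
        obtain ⟨z', rfl⟩ := (range_trX D.V.hom δ).ge (show z ∈ _ from ⟨IsLocalRing.closedPoint k', hk'.trans e.symm⟩)
        exact ⟨_, z', hz, rfl⟩
      · refine Set.eq_empty_iff_forall_notMem.2 ?_
        rintro _ ⟨⟨x, hx, rfl⟩, ⟨y, hy, e⟩⟩
        have : y ∈ B i := (Presentation.Sat.preimage_image D (hBs i)).le ⟨x, hx, e.symm⟩
        exact Set.eq_empty_iff_forall_notMem.1 (hdisj i j hij) _ ⟨this, hy⟩

end Groth.AlgSp2.FibreCount

end
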