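import Groth.Agent.Sga3.Spreading
import Mathlib.AlgebraicGeometry.Pullbacks
import Mathlib.AlgebraicGeometry.PullbackCarrier
import Mathlib.AlgebraicGeometry.Morphisms.QuasiSeparated
import Mathlib.AlgebraicGeometry.Morphisms.QuasiCompact

/-!
# Compact opens of base changes to a strictly henselian ring come from etale stages
-/

set_option autoImplicit false
set_option linter.style.haveILetI false
universe u

open CategoryTheory CategoryTheory.Limits AlgebraicGeometry TensorProduct Groth.Hensel1 Groth.Sga3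
  Groth.Sga3.HensPoint

noncomputable section

namespace Groth.AlgSp2.FibreCount

variable {R : Type u} [CommRing R] {X : Scheme.{u}} (f : X ⟶ Spec (CommRingCat.of R))

/-- The structure map of an algebra. -/
abbrev eS (R : Type u) [CommRing R] (E : Type u) [CommRing E] [Algebra R E] :
    Spec (CommRingCat.of E) ⟶ Spec (CommRingCat.of R) :=
  Spec.map (CommRingCat.ofHom (algebraMap R E))

/-- The base change of `X` to an algebra. -/
abbrev XE (E : Type u) [CommRing E] [Algebra R E] : Scheme.{u} := pullback (eS R E) f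

theorem spec_alg {E E' : Type u} [CommRing E] [Algebra R E] [CommRing E'] [Algebra R E'] (g : E →ₐ[R] E') :
    Spec.map (CommRingCat.ofHom g.toRingHom) ≫ eS R E = eS R E' := by
  rw [← Spec.map_comp, ← CommRingCat.ofHom_comp]
  exact congrArg (fun φ => Spec.map (CommRingCat.ofHom φ)) g.comp_algebraMap

/-- Transition maps. -/
def trX {E E' : Type u} [CommRing E] [Algebra R E] [CommRing E'] [Algebra R E'] (g : E →ₐ[R] E') :
    XE f E' ⟶ XE f E :=
  pullback.map _ _ _ _ (Spec.map (CommRingCat.ofHom g.toRingHom)) (𝟙 _) (𝟙 _)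
    (by rw [spec_alg, Category.comp_id]) (by simp)

@[reassoc (attr := simp)]
theorem trX_fst {E E' : Type u} [CommRing E] [Algebra R E] [CommRing E'] [Algebra R E'] (g : E →ₐ[R] E') :
    trX f g ≫ pullback.fst _ _ = pullback.fst _ _ ≫ Spec.map (CommRingCat.ofHom g.toRingHom) :=
  pullback.lift_fst _ _ _

@[reassoc (attr := simp)]
theorem trX_snd {E E' : Type u} [CommRing E] [Algebra R E] [CommRing E'] [Algebra R E'] (g : E →ₐ[R] E') :
    trX f g ≫ pullback.snd _ _ = pullback.snd _ _ :=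
  (pullback.lift_snd _ _ _).trans (Category.comp_id _)

theorem trX_comp {E E' E'' : Type u} [CommRing E] [Algebra R E] [CommRing E'] [Algebra R E'] [CommRing E'']
    [Algebra R E''] (g : E →ₐ[R] E') (g' : E' →ₐ[R] E'') : trX f (g'.comp g) = trX f g' ≫ trX f g := by
  apply pullback.hom_ext
  · rw [Category.assoc, trX_fst, trX_fst, trX_fst_assoc, ← Spec.map_comp, ← CommRingCat.ofHom_comp]
    rfl
  · rw [Category.assoc, trX_snd, trX_snd, trX_snd]

theorem preimage_trX_comp {E E' E'' : Type u} [CommRing E] [Algebra R E] [CommRing E'] [Algebra R E'] [CommRing E'']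
    [Algebra R E''] (g : E →ₐ[R] E') (g' : E' →ₐ[R] E'') (s : Set ↥(XE f E)) :
    trX f (g'.comp g) ⁻¹' s = trX f g' ⁻¹' (trX f g ⁻¹' s) := by
  rw [trX_comp]; rfl

/-- An affine piece of `X`. -/
structure Piece where
  /-- the ring -/
  B : Type u
  [ring : CommRing B]
  [alg : Algebra R B]
  /-- the open immersion -/
  j : Spec (CommRingCat.of B) ⟶ X
  [isOpen : IsOpenImmersion j]
  fac : j ≫ f = eS R B

attribute [instance] Piece.ring Piece.alg Piece.isOpen

variable {f}

/-- The pieces after base change. -/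
def Piece.jE (c : Piece f) (E : Type u) [CommRing E] [Algebra R E] :
    Spec (CommRingCat.of (E ⊗[R] c.B)) ⟶ XE f E :=
  (pullbackSpecIso R E c.B).inv ≫ pullback.map (eS R E) (eS R c.B) (eS R E) f (𝟙 _) c.j (𝟙 _) (by simp)
    (by rw [Category.comp_id, c.fac])

instance (c : Piece f) (E : Type u) [CommRing E] [Algebra R E] : IsOpenImmersion (c.jE E) := by
  unfold Piece.jE
  infer_instance

theorem Piece.range_jE (c : Piece f) (E : Type u) [CommRing E] [Algebra R E] :
    Set.range (c.jE E) = pullback.snd (eS R E) f ⁻¹' Set.range c.j := by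
  rw [Piece.jE, Scheme.Hom.comp_base, TopCat.coe_comp, Set.range_comp,
    Set.range_eq_univ.2 (pullbackSpecIso R E c.B).inv.surjective, Set.image_univ, Scheme.Pullback.range_map]
  simp

theorem Piece.map_jE (c : Piece f) {E E' : Type u} [CommRing E] [Algebra R E] [CommRing E'] [Algebra R E']
    (g : E →ₐ[R] E') :
    Spec.map (CommRingCat.ofHom (Algebra.TensorProduct.map g (AlgHom.id R c.B)).toRingHom) ≫ c.jE E =
      c.jE E' ≫ trX f g := by
  simp only [Piece.jE, Category.assoc]
  apply pullback.hom_ext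
  · simp only [Category.assoc, trX_fst, pullback.lift_fst, pullback.lift_fst_assoc, Category.comp_id,
      pullbackSpecIso_inv_fst, pullbackSpecIso_inv_fst_assoc]
    rw [← Spec.map_comp, ← Spec.map_comp]
    congr 1
  · simp only [Category.assoc, trX_snd, pullback.lift_snd, pullbackSpecIso_inv_snd_assoc]
    rw [← Category.assoc, ← Spec.map_comp]
    congr 2
    ext x
    simp

theorem Piece.preimage_image (c : Piece f) {E E' : Type u} [CommRing E] [Algebra R E] [CommRing E'] [Algebra R E']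
    (g : E →ₐ[R] E') (s : Set ↥(Spec (CommRingCat.of (E ⊗[R] c.B)))) :
    trX f g ⁻¹' (c.jE E '' s) = c.jE E' ''
      (Spec.map (CommRingCat.ofHom (Algebra.TensorProduct.map g (AlgHom.id R c.B)).toRingHom) ⁻¹' s) := by
  ext z
  constructor
  · rintro ⟨w, hw, e⟩
    obtain ⟨z', rfl⟩ : z ∈ Set.range (c.jE E') := by
      rw [c.range_jE, Set.mem_preimage, ← trX_snd f g, Scheme.Hom.comp_apply, ← e]
      exact (c.range_jE E).le ⟨w, rfl⟩
    refine ⟨z', ?_, rfl⟩
    rw [← Scheme.Hom.comp_apply, ← c.map_jE g, Scheme.Hom.comp_apply] at e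
    rw [Set.mem_preimage, ← (c.jE E).isOpenEmbedding.injective e]
    exact hw
  · rintro ⟨z', hz', rfl⟩
    exact ⟨_, hz', by rw [← Scheme.Hom.comp_apply, c.map_jE g, Scheme.Hom.comp_apply]⟩

/-- The image of a basic open. -/
def Piece.D (c : Piece f) {E : Type u} [CommRing E] [Algebra R E] (b : E ⊗[R] c.B) : Set ↥(XE f E) :=
  c.jE E '' (PrimeSpectrum.basicOpen b : Set (PrimeSpectrum (E ⊗[R] c.B)))

theorem Piece.isOpen_D (c : Piece f) {E : Type u} [CommRing E] [Algebra R E] (b : E ⊗[R] c.B) : IsOpen (c.D b) :=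
  (c.jE E).isOpenEmbedding.isOpenMap _ (PrimeSpectrum.basicOpen b).isOpen

theorem Piece.isCompact_D (c : Piece f) {E : Type u} [CommRing E] [Algebra R E] (b : E ⊗[R] c.B) :
    IsCompact (c.D b) :=
  (PrimeSpectrum.isCompact_basicOpen b).image (c.jE E).continuous

theorem Piece.preimage_D (c : Piece f) {E E' : Type u} [CommRing E] [Algebra R E] [CommRing E'] [Algebra R E']
    (g : E →ₐ[R] E') (b : E ⊗[R] c.B) :
    trX f g ⁻¹' c.D b = c.D (Algebra.TensorProduct.map g (AlgHom.id R c.B) b) := by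
  exact (c.preimage_image g _).trans rfl

theorem Piece.D_eq_empty_iff (c : Piece f) {E : Type u} [CommRing E] [Algebra R E] (b : E ⊗[R] c.B) :
    c.D b = ∅ ↔ IsNilpotent b :=
  Set.image_eq_empty.trans
    ((TopologicalSpace.Opens.coe_eq_empty).trans (PrimeSpectrum.basicOpen_eq_bot_iff _))

variable (f) in
theorem exists_pieces [CompactSpace ↥X] : ∃ (n : ℕ) (c : Fin n → Piece f), ∀ x : X, ∃ i, x ∈ Set.range (c i).j := by
  obtain ⟨n, U, hU, hcov⟩ : ∃ (n : ℕ) (U : Fin n → X.Opens), (∀ i, IsAffineOpen (U i)) ∧ ∀ x : X, ∃ i, x ∈ U i := by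
    obtain ⟨t, ht⟩ := isCompact_univ.elim_finite_subcover (fun U : X.affineOpens => (U.1 : Set X))
      (fun U => U.1.isOpen) (fun x _ => by
        obtain ⟨U, hU, hx, -⟩ := exists_isAffineOpen_mem_and_subset (x := x) (U := (⊤ : X.Opens)) trivial
        exact Set.mem_iUnion.2 ⟨⟨U, hU⟩, hx⟩)
    refine ⟨t.card, fun i => (t.equivFin.symm i).1.1, fun i => (t.equivFin.symm i).1.2, fun x => ?_⟩
    obtain ⟨U, hU, hx⟩ := Set.mem_iUnion₂.1 (ht (Set.mem_univ x))
    exact ⟨t.equivFin ⟨U, hU⟩, by simpa using hx⟩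
  refine ⟨n, fun i =>
    letI := (Spec.preimage ((hU i).fromSpec ≫ f)).hom.toAlgebra
    { B := Γ(X, U i), j := (hU i).fromSpec, fac := (Spec.map_preimage ((hU i).fromSpec ≫ f)).symm }, fun x => ?_⟩
  obtain ⟨i, hi⟩ := hcov x
  exact ⟨i, (hU i).range_fromSpec.ge hi⟩

/-- Compact opens are finite unions of basic opens of pieces. -/
theorem exists_eq_iUnion_D {n : ℕ} {c : Fin n → Piece f} (hc : ∀ x : X, ∃ i, x ∈ Set.range (c i).j)
    {E : Type u} [CommRing E] [Algebra R E] {K : Set ↥(XE f E)} (hKc : IsCompact K) (hKo : IsOpen K) :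
    ∃ t : Finset (Σ i, E ⊗[R] (c i).B), K = ⋃ a ∈ t, (c a.1).D a.2 := by
  classical
  obtain ⟨t, ht⟩ := hKc.elim_finite_subcover
    (fun a : {a : Σ i, E ⊗[R] (c i).B // (c a.1).D a.2 ⊆ K} => (c a.1.1).D a.1.2) (fun a => (c a.1.1).isOpen_D _)
    (fun x hx => by
      obtain ⟨i, hi⟩ := hc (pullback.snd (eS R E) f x)
      obtain ⟨z, rfl⟩ : x ∈ Set.range ((c i).jE E) := ((c i).range_jE E).ge hi
      obtain ⟨_, ⟨b, rfl⟩, hzb, hb⟩ := PrimeSpectrum.isTopologicalBasis_basic_opens.exists_subset_of_mem_open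
        hx (hKo.preimage ((c i).jE E).continuous)
      exact Set.mem_iUnion.2 ⟨⟨⟨i, b⟩, Set.image_subset_iff.2 hb⟩, z, hzb, rfl⟩)
  refine ⟨t.map (Function.Embedding.subtype _), ?_⟩
  ext x
  constructor
  · intro hx
    obtain ⟨a, ha, hxa⟩ := Set.mem_iUnion₂.1 (ht hx)
    exact Set.mem_iUnion₂.2 ⟨a.1, Finset.mem_map.2 ⟨a, ha, rfl⟩, hxa⟩
  · intro hx
    obtain ⟨a, ha, hxa⟩ := Set.mem_iUnion₂.1 hx
    obtain ⟨a', -, rfl⟩ := Finset.mem_map.1 ha
    exact a'.2 hxa

section Stages

variable {Ω : Type u} [Field Ω] [Algebra R Ω]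

theorem toT_eq_map (S : Stage R Ω) (B : Type u) [CommRing B] [Algebra R B] (z : S.E ⊗[R] B) :
    Spreading.toT S B z = Algebra.TensorProduct.map S.h (AlgHom.id R B) z := by
  induction z using TensorProduct.induction_on with
  | zero => simp
  | add x y hx hy => simp only [map_add, hx, hy]
  | tmul s n => simp

theorem move_eq_map {S S' : Stage R Ω} (g : StageHom S S') (B : Type u) [CommRing B] [Algebra R B]
    (z : S.E ⊗[R] B) : Spreading.move g B z = Algebra.TensorProduct.map g.f (AlgHom.id R B) z := by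
  induction z using TensorProduct.induction_on with
  | zero => simp
  | add x y hx hy => simp only [map_add, hx, hy]
  | tmul s n => simp

theorem comm_apply {S S' : Stage R Ω} (g : StageHom S S') {N : Type u} [AddCommGroup N] [Module R N]
    (z : S.E ⊗[R] N) : Spreading.toT S' N (Spreading.move g N z) = Spreading.toT S N z :=
  Spreading.toT_move g z

theorem toT_lTensor (S : Stage R Ω) {P Q : Type u} [AddCommGroup P] [Module R P] [AddCommGroup Q] [Module R Q]
    (φ : P →ₗ[R] Q) (a : S.E ⊗[R] P) :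
    Spreading.toT S Q (φ.lTensor S.E a) = φ.lTensor (Hens R Ω) (Spreading.toT S P a) := by
  induction a using TensorProduct.induction_on with
  | zero => simp
  | add x y hx hy => simp only [map_add, hx, hy]
  | tmul s n => rfl

theorem move_lTensor {S S' : Stage R Ω} (g : StageHom S S') {P Q : Type u} [AddCommGroup P] [Module R P]
    [AddCommGroup Q] [Module R Q] (φ : P →ₗ[R] Q) (a : S.E ⊗[R] P) :
    Spreading.move g Q (φ.lTensor S.E a) = φ.lTensor S'.E (Spreading.move g P a) := by
  induction a using TensorProduct.induction_on with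
  | zero => simp
  | add x y hx hy => simp only [map_add, hx, hy]
  | tmul s n => rfl

theorem exists_kill_of_presentation {F K N : Type u} [AddCommGroup F] [Module R F] [Module.Flat R F] [AddCommGroup K]
    [Module R K] [AddCommGroup N] [Module R N] (i : K →ₗ[R] F) (π : F →ₗ[R] N) (hπ : Function.Surjective π)
    (hex : Function.Exact i π) (S : Stage R Ω) (z : S.E ⊗[R] N)
    (hz : Spreading.toT S N z = 0) : ∃ (S' : Stage R Ω) (g : StageHom S S'), Spreading.move g N z = 0 := by
  obtain ⟨z', rfl⟩ := LinearMap.lTensor_surjective S.E hπ z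
  rw [toT_lTensor] at hz
  obtain ⟨w, hw⟩ := (lTensor_exact (Hens R Ω) hex hπ _).1 hz
  obtain ⟨S₂, y, hy⟩ := Spreading.exists_lift (N := K) (κ := PUnit.{u + 1}) fun _ => w
  obtain ⟨T, ⟨g₁⟩, ⟨g₂⟩⟩ := exists_merge S S₂
  have hh : Spreading.toT T F (Spreading.move g₁ F z') =
      Spreading.toT T F (i.lTensor T.E (Spreading.move g₂ K (y ⟨⟩))) := by
    rw [comm_apply, toT_lTensor, comm_apply, hy, hw]
  obtain ⟨T', g₃, hg₃⟩ := Spreading.exists_kill_tensor (N := F) (κ := PUnit.{u + 1}) T
    (fun _ => Spreading.move g₁ F z') (fun _ => i.lTensor T.E (Spreading.move g₂ K (y ⟨⟩))) fun _ => hh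
  refine ⟨T', Spreading.hcomp g₁ g₃, ?_⟩
  rw [← Spreading.move_move, move_lTensor, move_lTensor, hg₃ ⟨⟩, move_lTensor]
  exact (lTensor_exact T'.E hex hπ).apply_apply_eq_zero _

/-- An element vanishing over the henselian ring vanishes at a stage. -/
theorem exists_kill_module {N : Type u} [AddCommGroup N] [Module R N] (S : Stage R Ω) (z : S.E ⊗[R] N)
    (hz : Spreading.toT S N z = 0) : ∃ (S' : Stage R Ω) (g : StageHom S S'), Spreading.move g N z = 0 :=
  exists_kill_of_presentation (F := N →₀ R) (K := LinearMap.ker (Finsupp.linearCombination R (id : N → N)))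
    (LinearMap.ker (Finsupp.linearCombination R (id : N → N))).subtype (Finsupp.linearCombination R (id : N → N))
    (fun n => ⟨Finsupp.single n 1, by simp⟩)
    (LinearMap.exact_subtype_ker_map (Finsupp.linearCombination R (id : N → N))) S z hz

/-- An open compact empty over the henselian ring is empty at a stage. -/
theorem exists_stage_empty [CompactSpace ↥X] (S : Stage R Ω) {K : Set ↥(XE f S.E)} (hKc : IsCompact K)
    (hKo : IsOpen K) (h : trX f S.h ⁻¹' K = ∅) :
    ∃ (S' : Stage R Ω) (g : StageHom S S'), trX f g.f ⁻¹' K = ∅ := by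
  classical
  obtain ⟨n, c, hc⟩ := exists_pieces f
  obtain ⟨t, rfl⟩ := exists_eq_iUnion_D hc hKc hKo
  induction t using Finset.induction with
  | empty => exact ⟨S, ⟨AlgHom.id R _, AlgHom.comp_id _⟩, by simp⟩
  | @insert a s ha ih =>
    rw [Finset.set_biUnion_insert, Set.preimage_union, Set.union_empty_iff] at h
    obtain ⟨S₁, g₁, h₁⟩ := ih ((s.finite_toSet.isCompact_biUnion fun b _ => (c b.1).isCompact_D b.2))
      (isOpen_biUnion fun b _ => (c b.1).isOpen_D b.2) h.2
    have h0 : (c a.1).D (Algebra.TensorProduct.map S₁.h (AlgHom.id R (c a.1).B)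
        (Algebra.TensorProduct.map g₁.f (AlgHom.id R (c a.1).B) a.2)) = ∅ := by
      rw [← (c a.1).preimage_D, ← (c a.1).preimage_D, ← preimage_trX_comp, g₁.comm]
      exact h.1
    rw [Piece.D_eq_empty_iff] at h0
    obtain ⟨m, hm⟩ := h0
    rw [← map_pow, ← toT_eq_map] at hm
    obtain ⟨S₂, g₂, h₂⟩ := exists_kill_module S₁ _ hm
    rw [move_eq_map, map_pow] at h₂
    refine ⟨S₂, Spreading.hcomp g₁ g₂, ?_⟩
    show trX f (g₂.f.comp g₁.f) ⁻¹' _ = ∅
    rw [preimage_trX_comp, Finset.set_biUnion_insert, Set.preimage_union, h₁, Set.union_empty, (c a.1).preimage_D,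
      (c a.1).preimage_D, Piece.D_eq_empty_iff]
    exact ⟨m, h₂⟩

/-- Compact opens over the henselian ring come from a stage. -/
theorem exists_stage_open [CompactSpace ↥X] (S₀ : Stage R Ω) {W : Set ↥(XE f (Hens R Ω))} (hWc : IsCompact W)
    (hWo : IsOpen W) :
    ∃ (S : Stage R Ω) (_ : StageHom S₀ S) (K : Set ↥(XE f S.E)), IsCompact K ∧ IsOpen K ∧ trX f S.h ⁻¹' K = W := by
  classical
  obtain ⟨n, c, hc⟩ := exists_pieces f
  obtain ⟨t, rfl⟩ := exists_eq_iUnion_D hc hWc hWo
  choose Sa ya hya using fun a : Σ i, Hens R Ω ⊗[R] (c i).B =>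
    Spreading.exists_lift (N := (c a.1).B) (κ := PUnit.{u + 1}) fun _ => a.2
  have key : ∀ s : Finset (Σ i, Hens R Ω ⊗[R] (c i).B), ∃ (S : Stage R Ω) (_ : StageHom S₀ S)
      (b : ∀ a : Σ i, Hens R Ω ⊗[R] (c i).B, S.E ⊗[R] (c a.1).B),
      ∀ a ∈ s, Algebra.TensorProduct.map S.h (AlgHom.id R _) (b a) = a.2 := by
    intro s
    induction s using Finset.induction with
    | empty => exact ⟨S₀, ⟨AlgHom.id R _, AlgHom.comp_id _⟩, fun a => 0, by simp⟩
    | @insert a s ha ih =>
      obtain ⟨S, g, b, hb⟩ := ih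
      obtain ⟨T, ⟨g₁⟩, ⟨g₂⟩⟩ := exists_merge S (Sa a)
      refine ⟨T, Spreading.hcomp g g₁, Function.update (fun a' => Spreading.move g₁ _ (b a')) a
        (Spreading.move g₂ _ (ya a ⟨⟩)), fun a' ha' => ?_⟩
      rw [← toT_eq_map]
      rcases eq_or_ne a' a with rfl | hne
      · rw [Function.update_self, comm_apply, hya]
      · rw [Function.update_of_ne hne, comm_apply, toT_eq_map, hb _ ((Finset.mem_insert.1 ha').resolve_left hne)]
  obtain ⟨S, g, b, hb⟩ := key t
  refine ⟨S, g, ⋃ a ∈ t, (c a.1).D (b a), t.finite_toSet.isCompact_biUnion fun a _ => (c a.1).isCompact_D _,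
    isOpen_biUnion fun a _ => (c a.1).isOpen_D _, ?_⟩
  rw [Set.preimage_iUnion₂]
  exact Set.iUnion₂_congr fun a ha => by rw [(c a.1).preimage_D, hb a ha]

end Stages

end Groth.AlgSp2.FibreCount

end
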