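import Groth.Agent.AlgSp2.FibreCount.GeomPieces
import Groth.Agent.AlgSp2.FibreCount.Space
import Groth.Agent.AlgSp2.Approx.UnionScheme

/-!
# Upper semicontinuity of the number of components of reduced geometric fibres
-/

set_option autoImplicit false
set_option backward.isDefEq.respectTransparency.types false
set_option linter.style.haveILetI false
set_option maxHeartbeats 800000
universe u

open CategoryTheory CategoryTheory.Limits AlgebraicGeometry AlgSp Groth.AlgSpBasic TensorProduct

noncomputable section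

namespace Groth.AlgSp2.FibreCount

section Graph

variable {α β : Type*} [TopologicalSpace α] [TopologicalSpace β] {ι : Type*}

theorem eqvGen_of_connectedComponents_eq (A : ι → Set α) (ho : ∀ i, IsOpen (A i)) (hcov : ∀ x, ∃ i, x ∈ A i)
    {i j : ι} {x y : α} (hx : x ∈ A i) (hy : y ∈ A j) (h : ConnectedComponents.mk x = ConnectedComponents.mk y) :
    Relation.EqvGen (fun a b => (A a ∩ A b).Nonempty) i j := by
  let r := Relation.EqvGen fun a b => (A a ∩ A b).Nonempty
  let W := ⋃ a ∈ {a | r i a}, A a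
  have hW : IsClopen W := by
    refine ⟨?_, isOpen_biUnion fun a _ => ho a⟩
    rw [← isOpen_compl_iff, isOpen_iff_forall_mem_open]
    intro z hz
    obtain ⟨a, ha⟩ := hcov z
    refine ⟨A a, fun w hw hwW => ?_, ho a, ha⟩
    obtain ⟨b, hb, hwb⟩ := Set.mem_iUnion₂.1 hwW
    exact hz (Set.mem_iUnion₂.2 ⟨a, Relation.EqvGen.trans _ _ _ hb (Relation.EqvGen.rel _ _ ⟨w, hwb, hw⟩), ha⟩)
  have hy' : y ∈ W := hW.connectedComponent_subset (Set.mem_iUnion₂.2 ⟨i, Relation.EqvGen.refl i, hx⟩)
    (by rw [ConnectedComponents.coe_eq_coe.1 h]; exact mem_connectedComponent)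
  obtain ⟨b, hb, hyb⟩ := Set.mem_iUnion₂.1 hy'
  exact Relation.EqvGen.trans _ _ _ hb (Relation.EqvGen.rel _ _ ⟨y, hyb, hy⟩)

/-- Counting components through connected sets covering a space. -/
theorem card_le_of_pieces {α β : Type (u + 1)} [TopologicalSpace α] [TopologicalSpace β] {ι : Type u}
    (A : ι → Set α) (B : ι → Set β) (ho : ∀ i, IsOpen (A i)) (hcov : ∀ x, ∃ i, x ∈ A i)
    (hne : ∀ i, (A i).Nonempty) (hB : ∀ i, IsConnected (B i)) (hcovB : ∀ y, ∃ i, y ∈ B i)
    (hedge : ∀ i j, (A i ∩ A j).Nonempty → (B i ∩ B j).Nonempty) :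
    ENat.card (ConnectedComponents β) ≤ ENat.card (ConnectedComponents α) := by
  choose xA hxA using hne
  choose xB hxB using fun i => (hB i).nonempty
  choose g hg using hcov
  have key : ∀ i j, Relation.EqvGen (fun a b => (A a ∩ A b).Nonempty) i j →
      ConnectedComponents.mk (xB i) = ConnectedComponents.mk (xB j) := by
    intro i j h
    induction h with
    | rel a b hab =>
      obtain ⟨w, hwa, hwb⟩ := hedge a b hab
      refine (ConnectedComponents.coe_eq_coe'.2 ?_).trans (ConnectedComponents.coe_eq_coe'.2 ((hB b).isPreconnected.subset_connectedComponent hwb (hxB b))).symm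
      exact (hB a).isPreconnected.subset_connectedComponent hwa (hxB a)
    | refl => rfl
    | symm a b _ ih => exact ih.symm
    | trans a b c _ _ ih₁ ih₂ => exact ih₁.trans ih₂
  choose rep hrep using fun c : ConnectedComponents α => ConnectedComponents.surjective_coe c
  have hsurj : Function.Surjective fun c => ConnectedComponents.mk (xB (g (rep c))) := fun c' => ?_
  · exact ENat.card_le_card_of_injective (Function.injective_surjInv hsurj)
  obtain ⟨y, rfl⟩ := ConnectedComponents.surjective_coe c'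
  obtain ⟨j, hj⟩ := hcovB y
  refine ⟨ConnectedComponents.mk (xA j), (key _ j (eqvGen_of_connectedComponents_eq A ho
    (fun x => ⟨g x, hg x⟩) (hg _) (hxA j) (hrep _))).trans ?_⟩
  exact ConnectedComponents.coe_eq_coe'.2 ((hB j).isPreconnected.subset_connectedComponent hj (hxB j))

end Graph

variable {S : Scheme.{u}} {R : Type u} [CommRing R] (g : Spec (CommRingCat.of R) ⟶ S) {P : Sp S}
  (pr : P ⟶ (yon S).obj (Over.mk g))

/-- Transition maps of the base changed space. -/
def trP {E E' : Type u} [CommRing E] [Algebra R E] [CommRing E'] [Algebra R E'] (δ : E →ₐ[R] E') :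
    PE g pr E' ⟶ PE g pr E :=
  pullback.lift (pullback.fst _ _)
    (pullback.snd _ _ ≫ (yon S).map (Over.homMk (Spec.map (CommRingCat.ofHom δ.toRingHom))
      ((reassoc_of% spec_alg δ) g) : TE g E' ⟶ TE g E))
    (by rw [Category.assoc, ← Functor.map_comp, pullback.condition]
        exact congrArg (fun t => pullback.snd pr _ ≫ (yon S).map t) (Over.OverMorphism.ext (spec_alg δ).symm))

theorem isPullback_trP {E E' : Type u} [CommRing E] [Algebra R E] [CommRing E'] [Algebra R E'] (δ : E →ₐ[R] E') :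
    IsPullback (trP g pr δ) (pullback.snd _ _) (pullback.snd _ _)
      ((yon S).map (Over.homMk (Spec.map (CommRingCat.ofHom δ.toRingHom))
        ((reassoc_of% spec_alg δ) g) : TE g E' ⟶ TE g E)) := by
  refine IsPullback.of_right ?_ (pullback.lift_snd _ _ _) (IsPullback.of_hasPullback pr ((yon S).map (ψ g E)))
  rw [trP, pullback.lift_fst, ← Functor.map_comp,
    show (Over.homMk (Spec.map (CommRingCat.ofHom δ.toRingHom)) ((reassoc_of% spec_alg δ) g) : TE g E' ⟶ TE g E) ≫
      ψ g E = ψ g E' from Over.OverMorphism.ext (spec_alg δ)]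
  exact IsPullback.of_hasPullback pr ((yon S).map (ψ g E'))

theorem map_snd_trP {E k : Type u} [CommRing E] [Algebra R E] [Field k] [Algebra R k] (δ : E →ₐ[R] k)
    (p : Points (PE g pr k)) :
    Points.map (pullback.snd pr ((yon S).map (ψ g E))) (Points.map (trP g pr δ) p) =
      Points.schemeHomeo (TE g E) (Spec.map (CommRingCat.ofHom δ.toRingHom) (IsLocalRing.closedPoint k)) := by
  rw [← Points.map_comp, (isPullback_trP g pr δ).w, Points.map_comp]
  obtain ⟨c, hc⟩ := (Points.schemeHomeo (TE g k)).surjective (Points.map (pullback.snd pr ((yon S).map (ψ g k))) p)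
  rw [← hc, Points.map_yon_map_apply]
  exact congrArg _ (congrArg _ (Subsingleton.elim (α := PrimeSpectrum k) c _))

theorem exists_lift_point {E k : Type u} [CommRing E] [Algebra R E] [Field k] [Algebra R k] (δ : E →ₐ[R] k)
    (q : Points (PE g pr E)) (hq : Points.map (pullback.snd pr ((yon S).map (ψ g E))) q =
      Points.schemeHomeo (TE g E) (Spec.map (CommRingCat.ofHom δ.toRingHom) (IsLocalRing.closedPoint k))) :
    ∃ p, Points.map (trP g pr δ) p = q := by
  obtain ⟨p, hp, -⟩ := Groth.AlgSpBasic.exists_point_of_isPullback (isPullback_trP g pr δ) q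
    (Points.schemeHomeo (TE g k) (IsLocalRing.closedPoint k)) (hq.trans (Points.map_yon_map_apply
      (Over.homMk (Spec.map (CommRingCat.ofHom δ.toRingHom)) ((reassoc_of% spec_alg δ) g) : TE g k ⟶ TE g E)
      (IsLocalRing.closedPoint k)).symm)
  exact ⟨p, hp⟩

theorem exists_common_nbhd {k : Type u} [Field k] [Algebra R k] {ι : Type*} [DecidableEq ι] (T : Finset ι)
    (F : ι → Type u) [∀ i, CommRing (F i)] [∀ i, Algebra R (F i)] [∀ i, Algebra.Etale R (F i)]
    (γF : ∀ i, F i →ₐ[R] k) :
    ∃ (E : Type u) (_ : CommRing E) (_ : Algebra R E) (_ : Algebra.Etale R E) (γ : E →ₐ[R] k),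
      ∀ i ∈ T, ∃ φ : F i →ₐ[R] E, γ.comp φ = γF i := by
  induction T using Finset.induction with
  | empty => exact ⟨R, inferInstance, inferInstance, inferInstance, Algebra.ofId R k, by simp⟩
  | @insert a s ha ih =>
    obtain ⟨E, _, _, _, γ, h⟩ := ih
    haveI : Algebra.Etale R (E ⊗[R] F a) := Algebra.Etale.comp R E _
    refine ⟨E ⊗[R] F a, inferInstance, inferInstance, inferInstance,
      Algebra.TensorProduct.lift γ (γF a) fun _ _ => Commute.all _ _, fun i hi => ?_⟩
    rcases Finset.mem_insert.1 hi with rfl | hi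
    · exact ⟨Algebra.TensorProduct.includeRight, AlgHom.ext fun x => by simp⟩
    · obtain ⟨φ, hφ⟩ := h i hi
      exact ⟨Algebra.TensorProduct.includeLeft.comp φ, AlgHom.ext fun x => by simp [← hφ]⟩

/-- An affine etale chart of the space. -/
structure Chart where
  /-- the chart -/
  U : Over S
  [affine : IsAffine U.left]
  /-- the map to the space -/
  p : (yon S).obj U ⟶ P
  etale : RepWith @Etale p
  surj : RepWith @Surjective p
  /-- the map to the base -/
  h : U ⟶ Over.mk g
  w : p ≫ pr = (yon S).map h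

attribute [instance] Chart.affine

theorem nonempty_chart (hP : IsAlgSpace P) (hpr : IsProperMor pr) : Nonempty (Chart g pr) := by
  have hb : IsQuasiCompactSp ((yon S).obj (Over.mk g)) :=
    (isQuasiCompactSp_yon_iff _).2 (inferInstanceAs (CompactSpace ↥(Spec (CommRingCat.of R))))
  obtain ⟨U, p, hU, he, hs⟩ := exists_affine_chart hP
    (hpr.2.1.2 (IsAlgSpace.yon_obj _) hb (𝟙 _) (𝟙 _) pr (IsPullback.of_horiz_isIso ⟨by simp⟩))
  exact ⟨@Chart.mk _ _ _ g P pr U hU p he hs ((yon S).preimage (p ≫ pr)) ((yon S).map_preimage _).symm⟩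

theorem ofPt_left_of_eq_comp {T T' : Over S} {F : Sp S} (φ : T ⟶ T') (m : (yon S).obj T' ⟶ F)
    (m' : (yon S).obj T ⟶ F) (h : m' = (yon S).map φ ≫ m) (y : ↥T.left) :
    Points.ofPt m (φ.left y) = Points.ofPt m' y := by
  subst h
  exact (ofPt_comp_yon φ m y).symm

namespace Chart

variable {g pr} (C : Chart g pr)

/-- The structure map as a map of schemes. -/
abbrev f : C.U.left ⟶ Spec (CommRingCat.of R) := C.h.left

/-- A map to the chart gives a map to the base changed space. -/
def toPE {E : Type u} [CommRing E] [Algebra R E] {Q : Scheme.{u}} (b : Q ⟶ Spec (CommRingCat.of E))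
    (a : Q ⟶ C.U.left) (w : a ≫ C.f = b ≫ eS R E) :
    (yon S).obj (Over.mk (b ≫ eS R E ≫ g)) ⟶ PE g pr E :=
  pullback.lift ((yon S).map (Over.homMk a (by
      rw [← Over.w C.h]
      exact (reassoc_of% w) g) : Over.mk (b ≫ eS R E ≫ g) ⟶ C.U) ≫ C.p)
    ((yon S).map (Over.homMk b rfl : Over.mk (b ≫ eS R E ≫ g) ⟶ TE g E))
    (by rw [Category.assoc, C.w, ← Functor.map_comp, ← Functor.map_comp]
        exact congrArg (yon S).map (Over.OverMorphism.ext w))

variable (E : Type u) [CommRing E] [Algebra R E]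

/-- The chart after base change. -/
def uE : (yon S).obj (Over.mk (pullback.fst (eS R E) C.f ≫ eS R E ≫ g)) ⟶ PE g pr E :=
  C.toPE (pullback.fst (eS R E) C.f) (pullback.snd (eS R E) C.f) pullback.condition.symm

theorem isPullback_uE :
    IsPullback ((yon S).map (Over.homMk (pullback.snd (eS R E) C.f) (by
        rw [← Over.w C.h]; exact (pullback.condition_assoc g).symm) :
          Over.mk (pullback.fst (eS R E) C.f ≫ eS R E ≫ g) ⟶ C.U))
      (C.uE E) C.p (pullback.fst pr ((yon S).map (ψ g E))) := by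
  refine IsPullback.of_bot ?_ (pullback.lift_fst _ _ _).symm (IsPullback.of_hasPullback _ _)
  rw [uE, toPE, pullback.lift_snd, C.w]
  exact (IsPullback.of_map (Over.forget S) (f := (Over.homMk (pullback.snd (eS R E) C.f) (by
        rw [← Over.w C.h]; exact (pullback.condition_assoc g).symm) :
          Over.mk (pullback.fst (eS R E) C.f ≫ eS R E ≫ g) ⟶ C.U))
    (g := (Over.homMk (pullback.fst (eS R E) C.f) rfl :
      Over.mk (pullback.fst (eS R E) C.f ≫ eS R E ≫ g) ⟶ TE g E)) (h := C.h) (i := ψ g E)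
    (Over.OverMorphism.ext pullback.condition.symm) (IsPullback.of_hasPullback (eS R E) C.f).flip).map (yon S)

theorem etale_uE : RepWith @Etale (C.uE E) := repWith_of_isPullback (C.isPullback_uE E) C.etale

theorem surjective_uE : RepWith @Surjective (C.uE E) := repWith_of_isPullback (C.isPullback_uE E) C.surj

variable {E}

theorem etale_toPE [Algebra.Etale R E] {Q : Scheme.{u}} (b : Q ⟶ Spec (CommRingCat.of E))
    (a : Q ⟶ C.U.left) (w : a ≫ C.f = b ≫ eS R E) [Etale a] : RepWith @Etale (C.toPE b a w) := by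
  let l : Q ⟶ pullback (eS R E) C.f := pullback.lift b a w.symm
  haveI : Etale (eS R E) := HasRingHomProperty.Spec_iff.2 (RingHom.etale_algebraMap.2 ‹_›)
  haveI : Etale (l ≫ pullback.snd (eS R E) C.f) := by rw [pullback.lift_snd]; infer_instance
  haveI : Etale l := Etale.of_comp l (pullback.snd (eS R E) C.f)
  let L : Over.mk (b ≫ eS R E ≫ g) ⟶ Over.mk (pullback.fst (eS R E) C.f ≫ eS R E ≫ g) :=
    Over.homMk l (pullback.lift_fst_assoc _ _ _ _)
  have e : (yon S).map L ≫ C.uE E = C.toPE b a w := by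
    apply pullback.hom_ext
    · rw [Category.assoc, uE, toPE, toPE, pullback.lift_fst, pullback.lift_fst, ← Functor.map_comp_assoc]
      exact congrArg (fun t => (yon S).map t ≫ C.p) (Over.OverMorphism.ext (pullback.lift_snd _ _ _))
    · rw [Category.assoc, uE, toPE, toPE, pullback.lift_snd, pullback.lift_snd, ← Functor.map_comp]
      exact congrArg (yon S).map (Over.OverMorphism.ext (pullback.lift_fst _ _ _))
  rw [← e]
  exact repWith_comp ((repWith_yon_map_iff _ L).2 ‹Etale l›) (C.etale_uE E)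

theorem toPE_comp {Q Q' : Scheme.{u}} (b : Q ⟶ Spec (CommRingCat.of E)) (a : Q ⟶ C.U.left)
    (w : a ≫ C.f = b ≫ eS R E) (l : Q' ⟶ Q) (b' : Q' ⟶ Spec (CommRingCat.of E)) (a' : Q' ⟶ C.U.left)
    (hb : l ≫ b = b') (ha : l ≫ a = a') :
    C.toPE b' a' (by rw [← hb, ← ha, Category.assoc, Category.assoc, w]) =
      (yon S).map (Over.homMk l (by subst hb; exact (Category.assoc _ _ _).symm) :
        Over.mk (b' ≫ eS R E ≫ g) ⟶ Over.mk (b ≫ eS R E ≫ g)) ≫ C.toPE b a w := by
  subst hb ha
  apply pullback.hom_ext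
  · refine Eq.trans ?_ (Category.assoc _ _ _).symm
    refine (pullback.lift_fst _ _ _).trans (Eq.trans ?_ (congrArg ((yon S).map _ ≫ ·) (pullback.lift_fst _ _ _)).symm)
    rw [← Functor.map_comp_assoc]
    exact congrArg (fun t => (yon S).map t ≫ C.p) (Over.OverMorphism.ext rfl)
  · refine Eq.trans ?_ (Category.assoc _ _ _).symm
    refine (pullback.lift_snd _ _ _).trans (Eq.trans ?_ (congrArg ((yon S).map _ ≫ ·) (pullback.lift_snd _ _ _)).symm)
    rw [← Functor.map_comp]
    exact congrArg (yon S).map (Over.OverMorphism.ext rfl)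

theorem ofPt_toPE_apply {Q Q' : Scheme.{u}} (b : Q ⟶ Spec (CommRingCat.of E)) (a : Q ⟶ C.U.left)
    (w : a ≫ C.f = b ≫ eS R E) (l : Q' ⟶ Q) (b' : Q' ⟶ Spec (CommRingCat.of E)) (a' : Q' ⟶ C.U.left)
    (hb : l ≫ b = b') (ha : l ≫ a = a') (y : ↥Q') :
    Points.ofPt (C.toPE b a w) (l y) =
      Points.ofPt (C.toPE b' a' (by rw [← hb, ← ha, Category.assoc, Category.assoc, w])) y := by
  exact ofPt_left_of_eq_comp _ _ _ (C.toPE_comp b a w l b' a' hb ha) y

/-- The points of the base changed space on a piece. -/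
def J {Q : Scheme.{u}} (b : Q ⟶ Spec (CommRingCat.of E)) (a : Q ⟶ C.U.left) (w : a ≫ C.f = b ≫ eS R E) :
    Set (Points (PE g pr E)) :=
  Set.range (Points.ofPt (C.toPE b a w))

theorem ofPt_toPE_mem_J {Q Q' : Scheme.{u}} (b : Q ⟶ Spec (CommRingCat.of E)) (a : Q ⟶ C.U.left)
    (w : a ≫ C.f = b ≫ eS R E) (l : Q' ⟶ Q) (b' : Q' ⟶ Spec (CommRingCat.of E)) (a' : Q' ⟶ C.U.left)
    (hb : l ≫ b = b') (ha : l ≫ a = a') (y : ↥Q') :
    Points.ofPt (C.toPE b' a' (by rw [← hb, ← ha, Category.assoc, Category.assoc, w])) y ∈ C.J b a w :=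
  ⟨l y, C.ofPt_toPE_apply b a w l b' a' hb ha y⟩

theorem preimage_J {Q : Scheme.{u}} (b : Q ⟶ Spec (CommRingCat.of E))
    (a : Q ⟶ C.U.left) (w : a ≫ C.f = b ≫ eS R E) {k : Type u} [Field k] [Algebra R k] (δ : E →ₐ[R] k) :
    Points.map (trP g pr δ) ⁻¹' C.J b a w =
      C.J (pullback.fst (Spec.map (CommRingCat.ofHom δ.toRingHom)) b) (pullback.snd _ b ≫ a)
        (by rw [Category.assoc, w, ← pullback.condition_assoc, spec_alg]) := by
  let σ := Spec.map (CommRingCat.ofHom δ.toRingHom)
  have w' : (pullback.snd σ b ≫ a) ≫ C.f = pullback.fst σ b ≫ eS R k := by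
    rw [Category.assoc, w, ← pullback.condition_assoc, spec_alg]
  let c : Over.mk (pullback.fst σ b ≫ eS R k ≫ g) ⟶ Over.mk (b ≫ eS R E ≫ g) :=
    Over.homMk (pullback.snd σ b) (by
      show pullback.snd σ b ≫ b ≫ eS R E ≫ g = pullback.fst σ b ≫ eS R k ≫ g
      rw [← pullback.condition_assoc, reassoc_of% spec_alg δ])
  have sq : IsPullback ((yon S).map c) (C.toPE (pullback.fst σ b) (pullback.snd σ b ≫ a) w')
      (C.toPE b a w) (trP g pr δ) := by
    refine IsPullback.of_bot ?_ ?_ (isPullback_trP g pr δ)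
    · rw [toPE, toPE, pullback.lift_snd, pullback.lift_snd]
      exact (IsPullback.of_map (Over.forget S) (f := c)
        (g := (Over.homMk (pullback.fst σ b) rfl : Over.mk (pullback.fst σ b ≫ eS R k ≫ g) ⟶ TE g k))
        (h := (Over.homMk b rfl : Over.mk (b ≫ eS R E ≫ g) ⟶ TE g E))
        (i := (Over.homMk σ ((reassoc_of% spec_alg δ) g) : TE g k ⟶ TE g E))
        (Over.OverMorphism.ext pullback.condition.symm) (IsPullback.of_hasPullback σ b).flip).map (yon S)
    · apply pullback.hom_ext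
      · rw [Category.assoc, Category.assoc, trP, pullback.lift_fst, toPE, toPE, pullback.lift_fst, pullback.lift_fst,
          ← Functor.map_comp_assoc]
        exact congrArg (fun t => (yon S).map t ≫ C.p) (Over.OverMorphism.ext rfl)
      · rw [Category.assoc, Category.assoc, trP, pullback.lift_snd, toPE, toPE, pullback.lift_snd,
          pullback.lift_snd_assoc, ← Functor.map_comp, ← Functor.map_comp]
        exact congrArg (yon S).map (Over.OverMorphism.ext pullback.condition.symm)
  have key : ∀ {T : Over S} {G : Sp S} (m : (yon S).obj T ⟶ G),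
      Set.range (Points.ofPt m) = Set.range (Points.map m) := fun m => by
    rw [show Points.ofPt m = Points.map m ∘ Points.schemeHomeo _ from funext fun t => ofPt_eq_map m t,
      EquivLike.range_comp]
  rw [J, J, key, key]
  exact (range_map_eq_of_isPullback sq).symm

theorem isConnected_preimage_J {Q : Scheme.{u}} (b : Q ⟶ Spec (CommRingCat.of E)) [GeometricallyConnected b]
    (a : Q ⟶ C.U.left) (w : a ≫ C.f = b ≫ eS R E) {k : Type u} [Field k] [Algebra R k] (δ : E →ₐ[R] k) :
    IsConnected (Points.map (trP g pr δ) ⁻¹' C.J b a w) := by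
  rw [C.preimage_J b a w δ]
  haveI : ConnectedSpace ↥(Over.mk (pullback.fst (Spec.map (CommRingCat.ofHom δ.toRingHom)) b ≫ eS R k ≫ g)).left :=
    GeometricallyConnected.geometrically_connectedSpace (f := b) _ _ _ (IsPullback.of_hasPullback _ b).flip
  exact isConnected_range (Points.continuous_ofPt _)

end Chart

/-- The chart has geometrically reduced fibres. -/
theorem geometricallyReduced_chart (hP : IsAlgSpace P) (C : Chart g pr)
    (hred : ∀ (K : Type u) [Field K] [Algebra R K], IsReducedSp (PE g pr K)) : GeometricallyReduced C.f := by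
  rw [GeometricallyReduced.eq_geometrically, geometrically_iff_of_commRing]
  intro K _ _ Z fst snd h
  haveI : IsReduced (pullback (eS R K) C.f) :=
    Approx.isReduced_of_etale_chart (W := Over.mk (pullback.fst (eS R K) C.f ≫ eS R K ≫ g))
      (isAlgSpace_PE g pr hP K) (hred K) (C.etale_uE K)
  exact isReduced_of_isOpenImmersion h.flip.isoPullback.hom

/-- With reduced fibres the number of components does not grow nearby. -/
theorem exists_open_nhds_le (hP : IsAlgSpace P) (hpr : IsProperMor pr) (hfl : LocP @Flat pr)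
    (hfp : LocP @LocallyOfFinitePresentation pr)
    (hred : ∀ (K : Type u) [Field K] [Algebra R K], IsReducedSp (PE g pr K))
    (k : Type u) [Field k] [IsAlgClosed k] [Algebra R k] :
    ∃ O : Set ↥(Spec (CommRingCat.of R)), IsOpen O ∧ imPt R k ∈ O ∧
      ∀ t ∈ O, ∃ (k' : Type u) (_ : Field k') (_ : IsAlgClosed k') (_ : Algebra R k'), imPt R k' = t ∧
        ENat.card (ConnectedComponents (Points (PE g pr k'))) ≤ ENat.card (ConnectedComponents (Points (PE g pr k))) := by
  classical
  obtain ⟨C⟩ := nonempty_chart g pr hP hpr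
  haveI : GeometricallyReduced C.f := geometricallyReduced_chart g pr hP C hred
  have hid : RepWith @Etale (𝟙 ((yon S).obj (Over.mk g))) := repWith_id _ _
  have hcomm : C.p ≫ pr = (yon S).map C.h ≫ 𝟙 _ := by rw [Category.comp_id, C.w]
  haveI : Flat C.f := hfl C.p (𝟙 _) C.h C.etale hid hcomm
  haveI : LocallyOfFinitePresentation C.f := hfp C.p (𝟙 _) C.h C.etale hid hcomm
  haveI : CompactSpace ↥(XE C.f k) := QuasiCompact.compactSpace_of_compactSpace (pullback.fst (eS R k) C.f)
  choose cp hcp using fun z : ↥(XE C.f k) => exists_connPiece C.f k z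
  obtain ⟨T, hT⟩ := isCompact_univ.elim_finite_subcover (fun z => Set.range (cp z).d)
    (fun z => (cp z).d.isOpenMap.isOpen_range) fun z _ => Set.mem_iUnion.2 ⟨z, hcp z⟩
  obtain ⟨E, _, _, _, γ, hι⟩ := exists_common_nbhd T (fun z => (cp z).E) (fun z => (cp z).γ)
  choose ι hιγ using hι
  let σ : ∀ z : T, Spec (CommRingCat.of E) ⟶ Spec (CommRingCat.of (cp z).E) := fun z =>
    Spec.map (CommRingCat.ofHom (ι z z.2).toRingHom)
  haveI : Etale (eS R E) := HasRingHomProperty.Spec_iff.2 (RingHom.etale_algebraMap.2 ‹_›)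
  haveI : ∀ z, Etale (σ z) := fun z => by
    haveI : Etale (eS R (cp z).E) := HasRingHomProperty.Spec_iff.2 (RingHom.etale_algebraMap.2 (cp z).etale)
    haveI : Etale (σ z ≫ eS R (cp z).E) := by rw [spec_alg]; infer_instance
    exact Etale.of_comp (σ z) (eS R (cp z).E)
  let b : ∀ z : T, pullback (σ z) (cp z).b ⟶ Spec (CommRingCat.of E) := fun z => pullback.fst _ _
  let a : ∀ z : T, pullback (σ z) (cp z).b ⟶ C.U.left := fun z => pullback.snd _ _ ≫ (cp z).a
  have hw : ∀ z, a z ≫ C.f = b z ≫ eS R E := fun z => by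
    rw [Category.assoc, (cp z).w, ← pullback.condition_assoc, spec_alg]
  let J : T → Set (Points (PE g pr E)) := fun z => C.J (b z) (a z) (hw z)
  have hJo : ∀ z, IsOpen (J z) := fun z => by
    haveI : Etale (a z) := inferInstance
    exact (isOpenMap_ofPt_of_etale (C.etale_toPE (b z) (a z) (hw z))).isOpen_range
  -- the fibre at the given point is covered
  have hcov : ∀ p : Points (PE g pr k), ∃ z, p ∈ Points.map (trP g pr γ) ⁻¹' J z := fun p => by
    obtain ⟨w, rfl⟩ := surjective_ofPt_of_repWith (C.surjective_uE k) p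
    obtain ⟨z, hz, y, rfl⟩ := Set.mem_iUnion₂.1 (hT (Set.mem_univ w))
    refine ⟨⟨z, hz⟩, ?_⟩
    rw [C.preimage_J, Chart.uE, C.ofPt_toPE_apply _ _ _ (cp z).d _ _ (cp z).d_fst (cp z).d_snd]
    let l₀ : pullback (Spec.map (CommRingCat.ofHom (cp z).γ.toRingHom)) (cp z).b ⟶
        pullback (σ ⟨z, hz⟩) (cp z).b :=
      pullback.lift (pullback.fst _ _ ≫ Spec.map (CommRingCat.ofHom γ.toRingHom)) (pullback.snd _ _) (by
        rw [Category.assoc, ← Spec.map_comp, ← CommRingCat.ofHom_comp]
        refine (congrArg (fun m : (cp z).E →+* k => pullback.fst _ _ ≫ Spec.map (CommRingCat.ofHom m))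
          (congrArg AlgHom.toRingHom (hιγ z hz))).trans ?_
        exact pullback.condition)
    let l : pullback (Spec.map (CommRingCat.ofHom (cp z).γ.toRingHom)) (cp z).b ⟶
        pullback (Spec.map (CommRingCat.ofHom γ.toRingHom)) (b ⟨z, hz⟩) :=
      pullback.lift (pullback.fst _ _) l₀ (pullback.lift_fst _ _ _).symm
    exact C.ofPt_toPE_mem_J _ _ _ l _ _ (pullback.lift_fst _ _ _)
      (by rw [← Category.assoc, pullback.lift_snd, pullback.lift_snd_assoc]) y
  -- properness and openness over the new base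
  have hTE : IsAlgSpace ((yon S).obj (TE g E)) := IsAlgSpace.yon_obj _
  have hsq := IsPullback.of_hasPullback pr ((yon S).map (ψ g E))
  have hb0 : IsAlgSpace ((yon S).obj (Over.mk g)) := IsAlgSpace.yon_obj _
  have hPE := isAlgSpace_PE g pr hP E
  let π : PE g pr E ⟶ (yon S).obj (TE g E) := pullback.snd _ _
  have hπo : IsOpenMap (Points.map π) := isOpenMap_map_of_locP hPE hTE
    (locP_of_isPullback hP hb0 hTE hsq hfl) (locP_of_isPullback hP hb0 hTE hsq hfp)
  have hπc : IsClosedMap (Points.map π) :=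
    (Groth.AlgStBasic.stableBaseChange_proper hP hb0 hPE hTE pr _ π _ hsq hpr).2.2
      hTE (𝟙 _) (𝟙 _) π (IsPullback.of_horiz_isIso ⟨by simp⟩)
  let hm := Points.schemeHomeo (TE g E)
  -- the good open
  let Sc : Set ↥(Spec (CommRingCat.of E)) := (hm ⁻¹' (Points.map π '' (⋃ z, J z)ᶜ))ᶜ
  let Se : T → T → Set ↥(Spec (CommRingCat.of E)) := fun i j =>
    if (Points.map (trP g pr γ) ⁻¹' J i ∩ Points.map (trP g pr γ) ⁻¹' J j).Nonempty then
      hm ⁻¹' (Points.map π '' (J i ∩ J j)) else Set.univ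
  let N := Sc ∩ ⋂ i, ⋂ j, Se i j
  have hN : IsOpen N := ((hπc _ (isOpen_iUnion hJo).isClosed_compl).preimage hm.continuous).isOpen_compl.inter
    (isOpen_iInter_of_finite fun i => isOpen_iInter_of_finite fun j => by
      show IsOpen (ite _ _ _)
      split_ifs
      · exact (hπo _ ((hJo i).inter (hJo j))).preimage hm.continuous
      · exact isOpen_univ)
  let v : ↥(Spec (CommRingCat.of E)) := Spec.map (CommRingCat.ofHom γ.toRingHom) (IsLocalRing.closedPoint k)
  have hv : v ∈ N := by
    refine ⟨fun ⟨q, hq, e⟩ => ?_, Set.mem_iInter.2 fun i => Set.mem_iInter.2 fun j => ?_⟩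
    · obtain ⟨p, rfl⟩ := exists_lift_point g pr γ q e
      obtain ⟨z, hz⟩ := hcov p
      exact hq (Set.mem_iUnion.2 ⟨z, hz⟩)
    · show v ∈ ite _ _ _
      split_ifs with h
      · obtain ⟨p, hpi, hpj⟩ := h
        exact ⟨_, ⟨hpi, hpj⟩, map_snd_trP g pr γ p⟩
      · trivial
  refine ⟨eS R E '' N, (eS R E).isOpenMap _ hN, ⟨v, hv, by rw [← Scheme.Hom.comp_apply, spec_alg]⟩, ?_⟩
  rintro _ ⟨t, ht, rfl⟩
  obtain ⟨k', _, _, _, hk'⟩ := exists_geom (R := E) t
  letI : Algebra R k' := ((algebraMap E k').comp (algebraMap R E)).toAlgebra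
  let δ : E →ₐ[R] k' := { algebraMap E k' with commutes' := fun _ => rfl }
  refine ⟨k', inferInstance, inferInstance, inferInstance, ?_, ?_⟩
  · rw [← hk', imPt, imPt, ← spec_alg δ, Scheme.Hom.comp_apply]
  let T' := {z : T // (Points.map (trP g pr γ) ⁻¹' J z).Nonempty}
  refine card_le_of_pieces (ι := T') (fun z => Points.map (trP g pr γ) ⁻¹' J z.1)
    (fun z => Points.map (trP g pr δ) ⁻¹' J z.1) (fun z => (hJo z.1).preimage (Points.continuous_map _))
    (fun p => let ⟨z, hz⟩ := hcov p; ⟨⟨z, p, hz⟩, hz⟩) (fun z => z.2) (fun z => ?_) (fun q => ?_) fun i j hij => ?_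
  · haveI : GeometricallyConnected (b z.1) := inferInstance
    exact C.isConnected_preimage_J (b z.1) (a z.1) (hw z.1) δ
  · obtain ⟨z, hz⟩ : ∃ z, q ∈ Points.map (trP g pr δ) ⁻¹' J z := by
      by_contra h
      refine ht.1 ⟨Points.map (trP g pr δ) q, fun hU => h (let ⟨z, hz⟩ := Set.mem_iUnion.1 hU; ⟨z, hz⟩), ?_⟩
      rw [map_snd_trP, ← hk']
    obtain ⟨w⟩ : Nonempty ↥(pullback (Spec.map (CommRingCat.ofHom γ.toRingHom)) (b z)) := by
      haveI : ConnectedSpace ↥(pullback (Spec.map (CommRingCat.ofHom γ.toRingHom)) (b z)) :=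
        GeometricallyConnected.geometrically_connectedSpace (f := b z) _ _ _ (IsPullback.of_hasPullback _ _).flip
      infer_instance
    exact ⟨⟨z, _, by rw [C.preimage_J]; exact ⟨w, rfl⟩⟩, hz⟩
  · have h := Set.mem_iInter.1 (Set.mem_iInter.1 ht.2 i.1) j.1
    change t ∈ ite _ _ _ at h
    rw [if_pos hij] at h
    obtain ⟨q, hq, e⟩ := h
    obtain ⟨q', rfl⟩ := exists_lift_point g pr δ q (e.trans (congrArg hm hk'.symm))
    exact ⟨q', hq⟩

end Groth.AlgSp2.FibreCount

end
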